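import Mathlib.RingTheory.Valuation.Extension
import Mathlib.RingTheory.Valuation.ValuationSubring
import Mathlib.RingTheory.AlgebraicIndependent.TranscendenceBasis
import Mathlib.LinearAlgebra.Dimension.Localization
import Mathlib.Algebra.MvPolynomial.Equiv

/-!
Abhyankar's inequality for an extension of valued fields.
-/

set_option autoImplicit false

namespace Groth.Agent.CAlg24

universe u

open MvPolynomial

variable {K L Γ₀ Γ₁ : Type u} [Field K] [Field L] [Algebra K L]
  [LinearOrderedCommGroupWithZero Γ₀] [LinearOrderedCommGroupWithZero Γ₁]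
  (vK : Valuation K Γ₀) (vL : Valuation L Γ₁) [vK.HasExtension vL]

/-- A polynomial in elements with independent residues has the value of one of its coefficients. -/
theorem exists_val_eq_of_residue_indep {κ : Type u} (y : κ → vL.valuationSubring)
    (hy : AlgebraicIndependent (IsLocalRing.ResidueField vK.valuationSubring)
      (fun k => IsLocalRing.residue vL.valuationSubring (y k)))
    (P : MvPolynomial κ K) (hP : P ≠ 0) :
    ∃ c : K, c ≠ 0 ∧ vL (aeval (fun k => (y k : L)) P) = vL (algebraMap K L c) := by
  classical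
  obtain ⟨d₀, hd₀, hmax⟩ := Finset.exists_max_image P.support (fun d => vK (P.coeff d)) (support_nonempty.2 hP)
  set c := P.coeff d₀ with hcdef
  have hc : c ≠ 0 := mem_support_iff.1 hd₀
  refine ⟨c, hc, ?_⟩
  have hcoef : ∀ d, P.coeff d / c ∈ vK.valuationSubring := by
    intro d
    rw [Valuation.mem_valuationSubring_iff, map_div₀, div_le_one₀ (zero_lt_iff.2 ((map_ne_zero vK).2 hc))]
    by_cases hd : d ∈ P.support
    · exact hmax d hd
    · rw [notMem_support_iff.1 hd, map_zero]; exact zero_le
  let Q : MvPolynomial κ vK.valuationSubring := ∑ d ∈ P.support, monomial d ⟨_, hcoef d⟩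
  have hQ : MvPolynomial.map (algebraMap vK.valuationSubring K) Q = C c⁻¹ * P := by
    conv_rhs => rw [P.as_sum, Finset.mul_sum]
    simp only [Q, map_sum, map_monomial, C_mul_monomial]
    exact Finset.sum_congr rfl fun d _ => congrArg _ (div_eq_inv_mul (P.coeff d) c)
  let z : vL.valuationSubring := aeval y Q
  have hz : IsLocalRing.residue vL.valuationSubring z ≠ 0 := by
    intro h0
    have h1 : IsLocalRing.residue vL.valuationSubring z =
        aeval (fun k => IsLocalRing.residue vL.valuationSubring (y k))
          (MvPolynomial.map (IsLocalRing.residue vK.valuationSubring) Q) := by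
      simp only [z, aeval_def, eval₂_map, map_eval₂Hom, ← coe_eval₂Hom]
      refine congrArg (fun f => eval₂Hom f _ Q) ?_
      exact RingHom.ext fun a => (Valuation.HasExtension.algebraMap_residue_eq_residue_algebraMap vK vL a).symm
    have h2 := congrArg (MvPolynomial.coeff d₀) ((AlgebraicIndependent.eq_zero_of_aeval_eq_zero hy _ (h1 ▸ h0)))
    rw [coeff_map, coeff_zero] at h2
    have h3 : Q.coeff d₀ = 1 := by
      simp only [Q, coeff_sum, coeff_monomial, Finset.sum_ite_eq', if_pos hd₀]
      exact Subtype.ext (div_self hc)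
    rw [h3, map_one] at h2
    exact one_ne_zero h2
  have hz1 : vL (z : L) = 1 := by
    rw [ne_eq, IsLocalRing.residue_eq_zero_iff, Valuation.mem_maximalIdeal_iff, not_lt] at hz
    exact le_antisymm z.2 hz
  have hzP : (z : L) = algebraMap K L c⁻¹ * aeval (fun k => (y k : L)) P := by
    have : (z : L) = aeval (fun k => (y k : L)) (MvPolynomial.map (algebraMap vK.valuationSubring K) Q) := by
      simp only [z, aeval_def, eval₂_map, ← coe_eval₂Hom]
      show vL.valuationSubring.subtype _ = _
      rw [map_eval₂Hom]
      rfl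
    rw [this, hQ, map_mul, aeval_C]
  rw [hzP, map_mul, map_inv₀, map_inv₀] at hz1
  have := (map_ne_zero vL).2 ((map_ne_zero (algebraMap K L)).2 hc)
  exact (inv_mul_eq_one₀ this).1 hz1 |>.symm

/-- Abhyankar: lifts of independent residues and elements with independent values are algebraically independent. -/
theorem algebraicIndependent_sumElim {ι κ : Type u} (x : ι → Lˣ)
    (hx : LinearIndependent ℤ fun i =>
      (QuotientAddGroup.mk (Additive.ofMul (x i)) : Additive Lˣ ⧸ Subgroup.toAddSubgroup
        (vL.valuationSubring.unitGroup ⊔ (Units.map (algebraMap K L).toMonoidHom).range)))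
    (y : κ → vL.valuationSubring)
    (hy : AlgebraicIndependent (IsLocalRing.ResidueField vK.valuationSubring)
      (fun k => IsLocalRing.residue vL.valuationSubring (y k))) :
    AlgebraicIndependent K (Sum.elim (fun i => (x i : L)) (fun k => (y k : L))) := by
  classical
  rw [algebraicIndependent_iff]
  intro F hF
  set G := sumAlgEquiv K ι κ F with hG
  let Φ : MvPolynomial ι (MvPolynomial κ K) →+* L :=
    eval₂Hom (aeval fun k => (y k : L)).toRingHom fun i => (x i : L)
  have hΦ : Φ G = 0 := by
    rw [← hF, hG]
    show (Φ.comp (sumAlgEquiv K ι κ).toAlgHom.toRingHom) F = (aeval _).toRingHom F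
    congr 1
    refine MvPolynomial.ringHom_ext (fun r => by simp [Φ]) ?_
    rintro (i | k) <;> simp [Φ]
  by_contra hF0
  have hG0 : G ≠ 0 := (map_ne_zero_iff _ (sumAlgEquiv K ι κ).injective).2 hF0
  let mon : (ι →₀ ℕ) → Lˣ := fun a => a.prod fun i n => x i ^ n
  have hmon : ∀ a, ((mon a : Lˣ) : L) = a.prod fun i n => (x i : L) ^ n := fun a => by
    simp [mon, Finsupp.prod, Units.coe_prod]
  let t : (ι →₀ ℕ) → L := fun a => aeval (fun k => (y k : L)) (G.coeff a) * (mon a : L)
  have hsum : ∑ a ∈ G.support, t a = 0 := by
    rw [← hΦ]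
    simp only [Φ, coe_eval₂Hom, eval₂_eq, t, hmon]
    rfl
  choose! c hc hcv using fun a (ha : a ∈ G.support) =>
    exists_val_eq_of_residue_indep vK vL y hy _ (mem_support_iff.1 ha)
  have hne : ∀ a ∈ G.support, ∀ b ∈ G.support, vL (t a) = vL (t b) → a = b := by
    intro a ha b hb hab
    simp only [t, map_mul, hcv a ha, hcv b hb] at hab
    let u : Lˣ := Units.map (algebraMap K L).toMonoidHom (Units.mk0 (c a) (hc a ha) / Units.mk0 (c b) (hc b hb)) *
      (mon a / mon b)
    have hu : u ∈ vL.valuationSubring.unitGroup := by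
      rw [Valuation.mem_unitGroup_iff]
      have h1 := (map_ne_zero vL).2 ((map_ne_zero (algebraMap K L)).2 (hc b hb))
      have h2 := (map_ne_zero vL).2 (mon b).ne_zero
      simp only [u, Units.val_mul, Units.val_div_eq_div_val, Units.coe_map, MonoidHom.coe_coe, map_mul, map_div₀,
        RingHom.toMonoidHom_eq_coe, Units.val_mk0]
      rw [div_mul_div_comm, div_eq_one_iff_eq (mul_ne_zero h1 h2)]
      exact hab
    have hq : mon a / mon b ∈ vL.valuationSubring.unitGroup ⊔ (Units.map (algebraMap K L).toMonoidHom).range := by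
      have := Subgroup.mul_mem _ (Subgroup.inv_mem _ (Subgroup.mem_sup_right
        (MonoidHom.mem_range.2 ⟨Units.mk0 (c a) (hc a ha) / Units.mk0 (c b) (hc b hb), rfl⟩)))
        (Subgroup.mem_sup_left (T := (Units.map (algebraMap K L).toMonoidHom).range) hu)
      simpa only [u, inv_mul_cancel_left] using this
    have hq' : (QuotientAddGroup.mk (Additive.ofMul (mon a)) : Additive Lˣ ⧸ Subgroup.toAddSubgroup
        (vL.valuationSubring.unitGroup ⊔ (Units.map (algebraMap K L).toMonoidHom).range)) =
        QuotientAddGroup.mk (Additive.ofMul (mon b)) := by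
      rw [QuotientAddGroup.eq_iff_sub_mem]
      exact hq
    have hl : ∀ a : ι →₀ ℕ, (QuotientAddGroup.mk (Additive.ofMul (mon a)) : Additive Lˣ ⧸ Subgroup.toAddSubgroup
        (vL.valuationSubring.unitGroup ⊔ (Units.map (algebraMap K L).toMonoidHom).range)) =
        Finsupp.linearCombination ℤ (fun i => (QuotientAddGroup.mk (Additive.ofMul (x i)) : Additive Lˣ ⧸ Subgroup.toAddSubgroup
        (vL.valuationSubring.unitGroup ⊔ (Units.map (algebraMap K L).toMonoidHom).range)))
          (a.mapRange (Nat.cast : ℕ → ℤ) Nat.cast_zero) := fun a => by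
      rw [Finsupp.linearCombination_apply, Finsupp.sum_mapRange_index]
      swap
      · intro i
        first | exact zero_zsmul _ | exact zero_nsmul _ | exact zero_smul _ _
      rw [← QuotientAddGroup.mk'_apply]
      simp only [mon, Finsupp.prod, ofMul_prod, map_sum, Finsupp.sum, natCast_zsmul, ofMul_pow, map_nsmul,
        QuotientAddGroup.mk'_apply]
    rw [hl, hl] at hq'
    exact Finsupp.mapRange_injective _ Nat.cast_zero Nat.cast_injective (hx hq')
  obtain ⟨j, hj, hjmax⟩ := Finset.exists_max_image G.support (fun a => vL (t a)) (support_nonempty.2 hG0)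
  have hval := Valuation.map_sum_eq_of_lt (v := vL) (f := t) hj fun i hi => by
    obtain ⟨hi, hij⟩ := Finset.mem_sdiff.1 hi
    exact lt_of_le_of_ne (hjmax i hi) fun h => hij (Finset.mem_singleton.2 (hne i hi j hj h))
  rw [hsum, map_zero] at hval
  simp only [t, map_mul, hcv j hj] at hval
  rcases mul_eq_zero.1 hval.symm with h | h
  · exact hc j hj ((map_eq_zero _).1 ((map_eq_zero _).1 h))
  · exact (mon j).ne_zero ((map_eq_zero _).1 h)

theorem rank_add_trdeg_le :
    Module.rank ℤ (Additive Lˣ ⧸ Subgroup.toAddSubgroup
        (vL.valuationSubring.unitGroup ⊔ (Units.map (algebraMap K L).toMonoidHom).range)) +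
      Algebra.trdeg (IsLocalRing.ResidueField vK.valuationSubring)
        (IsLocalRing.ResidueField vL.valuationSubring) ≤ Algebra.trdeg K L := by
  obtain ⟨s, hs, hsli⟩ := exists_set_linearIndependent_of_isDomain (R := ℤ) (M := Additive Lˣ ⧸ Subgroup.toAddSubgroup
        (vL.valuationSubring.unitGroup ⊔ (Units.map (algebraMap K L).toMonoidHom).range))
  obtain ⟨t, ht⟩ := exists_isTranscendenceBasis (IsLocalRing.ResidueField vK.valuationSubring)
    (IsLocalRing.ResidueField vL.valuationSubring)
  choose x hx using fun i : s => QuotientAddGroup.mk_surjective i.1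
  choose y hy using fun k : t => IsLocalRing.residue_surjective (R := vL.valuationSubring) k.1
  have h := algebraicIndependent_sumElim vK vL (fun i => (x i).toMul)
    (by simpa only [ofMul_toMul, hx, LinearIndepOn, id] using hsli) y (by simpa [hy] using ht.1)
  have h' := h.cardinalMk_le_trdeg
  rwa [Cardinal.mk_sum, Cardinal.lift_id, Cardinal.lift_id, hs, ht.cardinalMk_eq_trdeg] at h'

end Groth.Agent.CAlg24
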