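import Groth.Agent.Prufer29.Chain
import Groth.Agent.Prufer29.Semilocal
import Mathlib.RingTheory.Algebraic.Integral
import Mathlib.RingTheory.AlgebraicIndependent.Transcendental

/-! Chains of primes in Prüfer domains and the transcendence degree over the prime field. -/

set_option autoImplicit false

universe u

namespace Groth.Agent.CAlg24

open Groth.Agent.Prufer29

theorem trdeg_primeRing (K : Type u) [Field K] :
    Algebra.trdeg (primeRing K) K = Algebra.trdeg (⊥ : Subfield K) K := by
  let T : Subfield K :=
    { toSubring := (Subalgebra.algebraicClosure (primeRing K) K).toSubring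
      inv_mem' := fun x hx => IsAlgebraic.inv_iff.2 hx }
  letI : Algebra (primeRing K) (⊥ : Subfield K) := (Subring.inclusion (show primeRing K ≤ (⊥ : Subfield K).toSubring by
    rintro _ ⟨n, rfl⟩; exact intCast_mem (⊥ : Subfield K) n)).toAlgebra
  haveI : IsScalarTower (primeRing K) (⊥ : Subfield K) K := IsScalarTower.of_algebraMap_eq fun _ => rfl
  haveI : FaithfulSMul (primeRing K) (⊥ : Subfield K) :=
    (faithfulSMul_iff_algebraMap_injective _ _).2 (Subring.inclusion_injective _)
  haveI : Algebra.IsAlgebraic (primeRing K) (⊥ : Subfield K) := ⟨fun x => by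
    rw [← isAlgebraic_algebraMap_iff (algebraMap (⊥ : Subfield K) K).injective]
    exact (bot_le : (⊥ : Subfield K) ≤ T) x.2⟩
  have h := trdeg_add_eq (primeRing K) (⊥ : Subfield K) (A := K)
  rwa [trdeg_eq_zero, zero_add, eq_comm] at h

variable {S : Type u} [CommRing S] [IsDomain S]

/-- A chain of primes in a Prüfer domain is no longer than the transcendence degree of its fraction
field over the prime field plus one. -/
theorem chain_length_le_trdeg {K : Type u} [Field K] [Algebra S K] (hinj : Function.Injective (algebraMap S K))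
    (d : ℕ) (hd : Algebra.trdeg (⊥ : Subfield K) K = d)
    (hS : ∀ (p : Ideal S) [p.IsPrime], ValuationRing (Localization.AtPrime p))
    (c : LTSeries (PrimeSpectrum S)) : c.length ≤ d + 1 := by
  classical
  let P : Fin (c.length + 1) → Ideal S := fun i => (c i).asIdeal
  haveI : ∀ i, (P i).IsPrime := fun i => (c i).isPrime
  have hmono : Monotone P := fun i j hij => PrimeSpectrum.asIdeal_le_asIdeal _ _ |>.mpr (c.monotone hij)
  have hlt : ∀ j : Fin c.length, P j.castSucc < P j.succ := fun j =>
    PrimeSpectrum.asIdeal_lt_asIdeal _ _ |>.mpr (c.step j)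
  let J : Finset (Fin c.length) := Finset.univ.filter fun j =>
    ∀ n : ℤ, (n : S) ∈ P j.succ → (n : S) ∈ P j.castSucc
  have hJ : (Finset.univ \ J).card ≤ 1 := by
    rw [Finset.card_le_one]
    suffices ∀ a b, a ∈ Finset.univ \ J → b ∈ Finset.univ \ J → ¬ a < b by
      intro a ha b hb
      rcases lt_trichotomy a b with h | h | h
      exacts [absurd h (this a b ha hb), h, absurd h (this b a hb ha)]
    intro a b ha hb hab
    simp only [J, Finset.mem_sdiff, Finset.mem_univ, Finset.mem_filter, true_and, not_forall] at ha hb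
    obtain ⟨n, hn, hn'⟩ := ha
    obtain ⟨m, hm, hm'⟩ := hb
    let φ : ℤ →+* S := Int.castRingHom S
    let q : Fin (c.length + 1) → Ideal ℤ := fun i => (P i).comap φ
    have h1 : q a.castSucc < q a.succ :=
      lt_of_le_of_ne (Ideal.comap_mono (hlt a).le) fun h => hn' (show n ∈ q a.castSucc from h ▸ hn)
    have h2 : q b.castSucc < q b.succ :=
      lt_of_le_of_ne (Ideal.comap_mono (hlt b).le) fun h => hm' (show m ∈ q b.castSucc from h ▸ hm)
    have h12 : q a.succ ≤ q b.castSucc := Ideal.comap_mono (hmono (Fin.succ_le_castSucc_iff.mpr hab))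
    haveI : (q a.succ).IsPrime := Ideal.comap_isPrime _ _
    haveI : (q b.succ).IsPrime := Ideal.comap_isPrime _ _
    have hmax : (q a.succ).IsMaximal := IsPrime.to_maximal_ideal (bot_le.trans_lt h1).ne'
    exact absurd (hmax.eq_of_le Ideal.IsPrime.ne_top' (h12.trans h2.le)) (h12.trans_lt h2).ne
  have hchoice : ∀ j : Fin c.length, ∃ x, x ∈ P j.succ ∧ x ∉ P j.castSucc := fun j =>
    SetLike.exists_of_lt (hlt j)
  choose x hx using hchoice
  let R₀ := primeRing K
  have hind : AlgebraicIndependent R₀ (fun j : J => algebraMap S K (x j)) := by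
    rw [algebraicIndependent_iff]
    intro F hF
    obtain ⟨G, rfl⟩ := MvPolynomial.map_surjective (Int.castRingHom K).rangeRestrict
      (Int.castRingHom K).rangeRestrict_surjective F
    rw [MvPolynomial.aeval_def, MvPolynomial.eval₂_map,
      show (algebraMap R₀ K).comp (Int.castRingHom K).rangeRestrict = (algebraMap S K).comp (Int.castRingHom S) from
        RingHom.ext_int _ _,
      show (fun j : J => algebraMap S K (x j)) = algebraMap S K ∘ (fun j : J => x j) from rfl,
      ← MvPolynomial.eval₂_comp_left, map_eq_zero_iff _ hinj] at hF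
    ext e
    rw [MvPolynomial.coeff_map, MvPolynomial.coeff_zero]
    have h := eq_zero_of_eval₂ P hmono (hS _) (fun j : J => (j : Fin c.length)) (fun a b h => h)
      (fun j => x j) (fun j => hx j) (fun j n => (Finset.mem_filter.mp j.2).2 n) G hF e
    have h' := congrArg (algebraMap S K) h
    rw [map_intCast, map_zero] at h'
    exact h'
  have htr : J.card ≤ d := by
    have h1 := hind.lift_cardinalMk_le_trdeg
    rw [trdeg_primeRing, hd, Cardinal.mk_coe_finset, Cardinal.lift_natCast, Cardinal.lift_natCast, Nat.cast_le] at h1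
    exact h1
  have := Finset.card_sdiff_add_card_eq_card (Finset.subset_univ J)
  rw [Finset.card_univ, Fintype.card_fin] at this
  omega

end Groth.Agent.CAlg24

namespace Groth.Agent.CAlg24

theorem valuationRing_atPrime_of_valuationRing {R : Type u} [CommRing R] [IsDomain R] [ValuationRing R]
    (p : Ideal R) [p.IsPrime] : ValuationRing (Localization.AtPrime p) := by
  refine (Groth.Agent.Prufer29.valuationRing_atPrime_iff p).2 fun a b => ?_
  obtain ⟨c, h | h⟩ := ValuationRing.cond a b
  · exact ⟨c, 1, fun h1 => Ideal.IsPrime.ne_top' (I := p) ((Ideal.eq_top_iff_one _).2 h1), .inr (by rw [one_mul, ← h, mul_comm])⟩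
  · exact ⟨c, 1, fun h1 => Ideal.IsPrime.ne_top' (I := p) ((Ideal.eq_top_iff_one _).2 h1), .inl (by rw [one_mul, ← h, mul_comm])⟩

end Groth.Agent.CAlg24
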