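import Mathlib.RingTheory.LocalRing.Module
import Mathlib.RingTheory.Localization.Module
import Mathlib.Algebra.Module.LocalizedModule.Exact
import Mathlib.RingTheory.Localization.AtPrime.Basic
import Mathlib.Algebra.Module.Projective
import Mathlib.LinearAlgebra.Isomorphisms

/-!
The cokernel of a vector.
-/

set_option autoImplicit false

namespace Groth.Agent.CAlg24

universe u v

variable {A : Type u} [CommRing A] [IsDomain A] {n : ℕ} {M : Type v} [AddCommGroup M] [Module A M]
  (ψ : (Fin n → A) →ₗ[A] M) (hψ : Function.Surjective ψ) (v : Fin n → A)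
  (hker : LinearMap.ker ψ = A ∙ v)

include hψ hker in
omit [IsDomain A] in
theorem free_of_unimodular [IsLocalRing A] (hv : Ideal.span (Set.range v) = ⊤) : Module.Free A M := by
  have h1 : (1 : A) ∈ Ideal.span (Set.range v) := hv ▸ trivial
  obtain ⟨a, ha⟩ := (Submodule.mem_span_range_iff_exists_fun A).1 h1
  let φ : (Fin n → A) →ₗ[A] A := Fintype.linearCombination A a
  have hφ : φ v = 1 := by
    rw [← ha]
    simp [φ, Fintype.linearCombination_apply, mul_comm]
  let r : (Fin n → A) →ₗ[A] (Fin n → A) := LinearMap.id - (LinearMap.toSpanSingleton A _ v).comp φ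
  have hr : LinearMap.ker ψ ≤ LinearMap.ker r := by
    rw [hker, Submodule.span_singleton_le_iff_mem, LinearMap.mem_ker]
    simp [r, hφ]
  let s : M →ₗ[A] (Fin n → A) :=
    ((LinearMap.ker ψ).liftQ r hr).comp (ψ.quotKerEquivOfSurjective hψ).symm.toLinearMap
  have hs : ψ.comp s = LinearMap.id := by
    ext m
    obtain ⟨x, rfl⟩ := hψ m
    have e : (ψ.quotKerEquivOfSurjective hψ).symm (ψ x) = Submodule.Quotient.mk x := by
      rw [LinearEquiv.symm_apply_eq]; rfl
    simp only [s, LinearMap.comp_apply, LinearEquiv.coe_coe, e, Submodule.liftQ_apply, LinearMap.id_apply]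
    simp only [r, LinearMap.sub_apply, LinearMap.id_apply, LinearMap.comp_apply, map_sub,
      LinearMap.toSpanSingleton_apply, map_smul]
    rw [show ψ v = 0 from LinearMap.mem_ker.1 (hker ▸ Submodule.mem_span_singleton_self v), smul_zero, sub_zero]
  haveI : Module.Projective A M := Module.Projective.of_split s ψ hs
  haveI : Module.Finite A M := Module.Finite.of_surjective ψ hψ
  haveI : Module.FinitePresentation A M := Module.finitePresentation_of_projective A M
  exact Module.free_of_flat_of_isLocalRing

include hψ hker in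
theorem not_free_localization (P : Ideal A) [P.IsPrime] (hv0 : v ≠ 0) (hv : ∀ i, v i ∈ P) :
    ¬ Module.Free (Localization.AtPrime P) (LocalizedModule P.primeCompl M) := by
  classical
  intro hfree
  let T := P.primeCompl
  let ι := LocalizedModule.mkLinearMap T (Fin n → A)
  let ψ' := LocalizedModule.map T ψ
  have hψ' : Function.Surjective ψ' := IsLocalizedModule.map_surjective T ι (LocalizedModule.mkLinearMap T M) ψ hψ
  obtain ⟨s, hs⟩ := Module.projective_lifting_property ψ' LinearMap.id hψ'
  have hexact : Function.Exact (LinearMap.toSpanSingleton A _ v) ψ :=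
    LinearMap.exact_iff.2 (by rw [hker, LinearMap.range_toSpanSingleton])
  have hexact' := IsLocalizedModule.map_exact T (LocalizedModule.mkLinearMap T A) ι
    (LocalizedModule.mkLinearMap T M) _ ψ hexact
  let e : Fin n → LocalizedModule T (Fin n → A) := fun i => ι (Pi.single i 1)
  let r : LocalizedModule T (Fin n → A) →ₗ[Localization.AtPrime P] LocalizedModule T (Fin n → A) :=
    LinearMap.id - s.comp ψ'
  have hψv : ψ' (ι v) = 0 := by
    show IsLocalizedModule.map T ι (LocalizedModule.mkLinearMap T M) ψ (ι v) = 0
    rw [IsLocalizedModule.map_apply, show ψ v = 0 from LinearMap.mem_ker.1 (hker ▸ Submodule.mem_span_singleton_self v),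
      map_zero]
  have hc : ∀ i, ∃ c : Localization.AtPrime P, r (e i) = c • ι v := by
    intro i
    have h0 : ψ' (r (e i)) = 0 := by
      simp only [r, LinearMap.sub_apply, LinearMap.id_apply, LinearMap.comp_apply, map_sub]
      rw [show ψ' (s (ψ' (e i))) = ψ' (e i) from LinearMap.congr_fun hs _, sub_self]
    obtain ⟨z, hz⟩ := (hexact' (r (e i))).1 h0
    rw [← hz]
    induction z using LocalizedModule.induction_on with
    | _ a t =>
      refine ⟨Localization.mk a t, ?_⟩
      rw [← IsLocalizedModule.mk'_one T ι v]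
      rw [show LocalizedModule.mk a t = IsLocalizedModule.mk' (LocalizedModule.mkLinearMap T A) a t from
        (IsLocalizedModule.mk_eq_mk' _ _), IsLocalizedModule.map_mk']
      rw [← IsLocalizedModule.mk_eq_mk', ← IsLocalizedModule.mk_eq_mk', LocalizedModule.mk_smul_mk]
      simp [LinearMap.toSpanSingleton_apply]
  choose c hc using hc
  have hv' : ι v = ∑ i, algebraMap A (Localization.AtPrime P) (v i) • e i := by
    conv_lhs => rw [pi_eq_sum_univ' v, map_sum]
    exact Finset.sum_congr rfl fun i _ => by rw [map_smul, algebraMap_smul]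
  have hrv : r (ι v) = ι v := by simp [r, hψv]
  have h1 : ι v = (∑ i, algebraMap A (Localization.AtPrime P) (v i) * c i) • ι v := by
    conv_lhs => rw [← hrv, hv', map_sum]
    rw [Finset.sum_smul]
    exact Finset.sum_congr rfl fun i _ => by rw [map_smul, hc, mul_smul]
  have hu : IsUnit (1 - ∑ i, algebraMap A (Localization.AtPrime P) (v i) * c i) := by
    refine IsLocalRing.isUnit_one_sub_self_of_mem_nonunits _ ?_
    refine (IsLocalRing.mem_maximalIdeal _).1 (Ideal.sum_mem _ fun i _ => Ideal.mul_mem_right _ _ ?_)
    exact (IsLocalization.AtPrime.to_map_mem_maximal_iff _ P _).2 (hv i)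
  have h2 : (1 - ∑ i, algebraMap A (Localization.AtPrime P) (v i) * c i) • ι v = 0 := by
    exact (sub_smul _ _ _).trans ((congrArg₂ (· - ·) (one_smul _ _) h1.symm).trans (sub_self _))
  rw [hu.smul_eq_zero] at h2
  obtain ⟨t, ht⟩ := (IsLocalizedModule.eq_zero_iff T ι).1 h2
  refine hv0 (funext fun i => ?_)
  have := congrFun ht i
  simp only [Pi.smul_apply, Pi.zero_apply, Submonoid.smul_def, smul_eq_mul, mul_eq_zero] at this
  exact this.resolve_left fun h => t.2 (h ▸ P.zero_mem)

end Groth.Agent.CAlg24
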