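import Mathlib.RingTheory.Localization.AtPrime.Basic
import Mathlib.RingTheory.Localization.Away.Basic
import Mathlib.RingTheory.Spectrum.Prime.Basic

/-!
In a ring with finitely many primes, every local ring is a basic open.
-/

namespace Groth.Agent.CAlg24

universe u

theorem exists_notMem_forall_dvd_pow {B : Type u} [CommRing B] [Finite (PrimeSpectrum B)]
    (P : Ideal B) [P.IsPrime] :
    ∃ b ∉ P, ∀ s ∉ P, ∃ n : ℕ, s ∣ b ^ n := by
  classical
  haveI := Fintype.ofFinite {Q : PrimeSpectrum B // ¬ Q.asIdeal ≤ P}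
  choose x hxQ hxP using fun Q : {Q : PrimeSpectrum B // ¬ Q.asIdeal ≤ P} =>
    SetLike.not_le_iff_exists.1 Q.2
  refine ⟨∏ Q, x Q, fun h => ?_, fun s hs => ?_⟩
  · obtain ⟨Q, -, hQ⟩ := (Ideal.IsPrime.prod_mem_iff (p := P)).1 h
    exact hxP Q hQ
  · have : ∏ Q, x Q ∈ (Ideal.span {s}).radical := by
      rw [Ideal.radical_eq_sInf]
      refine Submodule.mem_sInf.2 fun Q hQ => ?_
      have hQP : ¬ Q ≤ P := fun h => hs (h (hQ.1 (Ideal.mem_span_singleton_self s)))
      exact Ideal.mem_of_dvd _ (Finset.dvd_prod_of_mem x (Finset.mem_univ ⟨⟨Q, hQ.2⟩, hQP⟩))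
        (hxQ ⟨⟨Q, hQ.2⟩, hQP⟩)
    obtain ⟨n, hn⟩ := this
    exact ⟨n, Ideal.mem_span_singleton.1 hn⟩

/-- A localization at a prime of a ring with finitely many primes is a localization away from one element. -/
theorem exists_isLocalization_away {B : Type u} [CommRing B] [Finite (PrimeSpectrum B)]
    (P : Ideal B) [P.IsPrime] (S : Type u) [CommRing S] [Algebra B S] [IsLocalization.AtPrime S P] :
    ∃ b ∉ P, IsLocalization.Away b S := by
  obtain ⟨b, hb, hdvd⟩ := exists_notMem_forall_dvd_pow P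
  refine ⟨b, hb, (IsLocalization.iff_of_le_of_exists_dvd (Submonoid.powers b) P.primeCompl
    (Submonoid.powers_le.2 hb) fun s hs => ?_).2 ‹_›⟩
  obtain ⟨n, hn⟩ := hdvd s hs
  exact ⟨b ^ n, ⟨n, rfl⟩, hn⟩

end Groth.Agent.CAlg24
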