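import Mathlib.Algebra.TrivSqZeroExt.Ideal
import Mathlib.RingTheory.Kaehler.Basic
import Mathlib.Algebra.MvPolynomial.PDeriv
import Mathlib.Algebra.MvPolynomial.Division
import Mathlib.Tactic.LinearCombination
import Mathlib.Tactic.Ring
import Mathlib.LinearAlgebra.TensorProduct.Quotient
import Mathlib.Algebra.Module.Torsion.Basic

/-!
The conormal sequence at a node over a trivial square-zero extension.
-/

set_option autoImplicit false

namespace Groth.Agent.CAlg24.Nodal

universe u

open MvPolynomial TensorProduct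

variable {A : Type u} [CommRing A] (J : Type u) [AddCommGroup J] [Module A J] [Module Aᵐᵒᵖ J]
  [IsCentralScalar A J]

abbrev R0 (A : Type u) [CommRing A] := MvPolynomial (Fin 2) A

abbrev R1 := MvPolynomial (Fin 2) (TrivSqZeroExt A J)

abbrev M0 := R0 A ⊗[A] J

abbrev N0 := (M0 (A := A) J) × R0 A × R0 A

/-- The coefficientwise decomposition. -/
noncomputable def split : R1 (A := A) J →+* TrivSqZeroExt (R0 A) (M0 (A := A) J) :=
  eval₂Hom
    (TrivSqZeroExt.lift (S := A)
      ((TrivSqZeroExt.inlAlgHom A (R0 A) (M0 (A := A) J)).comp (Algebra.ofId A (R0 A)))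
      (((TrivSqZeroExt.inrHom (R0 A) (M0 (A := A) J)).restrictScalars A).comp (TensorProduct.mk A (R0 A) J 1))
      (fun x y => by simp [TrivSqZeroExt.inr_mul_inr])
      (fun r x => by
        rw [map_smul]
        simp [Algebra.smul_def])
      (fun r x => by
        rw [op_smul_eq_smul, map_smul]
        simp [Algebra.smul_def]
        exact mul_comm _ _)).toRingHom
    (fun i => TrivSqZeroExt.inl (X i))

theorem split_C (a : TrivSqZeroExt A J) :
    split J (C a) = TrivSqZeroExt.inl (C a.fst) + TrivSqZeroExt.inr ((1 : R0 A) ⊗ₜ[A] a.snd) := by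
  simp [split, TrivSqZeroExt.lift_def, TrivSqZeroExt.algebraMap_eq_inl', MvPolynomial.algebraMap_eq]

theorem split_X (i : Fin 2) : split (A := A) J (X i) = TrivSqZeroExt.inl (X i) := by
  simp [split]

/-- Forget `J`. -/
noncomputable def base : R1 (A := A) J →+* R0 A :=
  (TrivSqZeroExt.fstHom A (R0 A) (M0 (A := A) J)).toRingHom.comp (split J)

theorem base_apply (P : R1 (A := A) J) : base J P = (split J P).fst := rfl

theorem base_surjective : Function.Surjective (base (A := A) J) := by
  intro r
  refine ⟨MvPolynomial.map (TrivSqZeroExt.inlHom A J) r, ?_⟩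
  suffices h : (base (A := A) J).comp (MvPolynomial.map (TrivSqZeroExt.inlHom A J)) = RingHom.id _ from
    RingHom.congr_fun h r
  apply MvPolynomial.ringHom_ext <;> intro i <;> simp [base_apply, split_C, split_X]

/-- The derivative with values in `N0`. -/
noncomputable def d0 (P : R1 (A := A) J) : N0 (A := A) J :=
  ((split J P).snd, pderiv 0 (base J P), pderiv 1 (base J P))

theorem d0_add (P Q : R1 (A := A) J) : d0 J (P + Q) = d0 J P + d0 J Q := by
  simp [d0]

theorem d0_mul (P Q : R1 (A := A) J) : d0 J (P * Q) = base J P • d0 J Q + base J Q • d0 J P := by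
  simp only [d0, map_mul, Derivation.leibniz, Prod.smul_mk, Prod.mk_add_mk, TrivSqZeroExt.snd_mul, base_apply]
  rw [op_smul_eq_smul]

variable (τ : TrivSqZeroExt A J)

/-- The equation. -/
noncomputable def eq0 : R0 A := X 0 * X 1 - C τ.fst

/-- The equation over the thickening. -/
noncomputable def eq1 : R1 (A := A) J := X 0 * X 1 - C τ

theorem split_eq1 : split J (eq1 J τ) =
    TrivSqZeroExt.inl (eq0 J τ) + TrivSqZeroExt.inr (-((1 : R0 A) ⊗ₜ[A] τ.snd)) := by
  simp only [eq1, eq0, map_sub, map_mul, split_C, split_X, TrivSqZeroExt.inl_mul_inl, TrivSqZeroExt.inl_sub,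
    TrivSqZeroExt.inr_neg]
  abel

theorem base_eq1 : base J (eq1 J τ) = eq0 J τ := by
  rw [base_apply, split_eq1]
  simp

/-- The relation vector. -/
noncomputable def relVec : N0 (A := A) J := (-((1 : R0 A) ⊗ₜ[A] τ.snd), X 1, X 0)

theorem d0_eq1 : d0 J (eq1 J τ) = relVec J τ := by
  simp only [d0, base_eq1, split_eq1, relVec, eq0]
  simp [pderiv_X, Pi.single_apply]

/-- The relations. -/
noncomputable def rel : Submodule (R0 A) (N0 (A := A) J) :=
  LinearMap.range (LinearMap.lsmul (R0 A) (N0 (A := A) J) (eq0 J τ)) ⊔ (R0 A ∙ relVec J τ)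

theorem d0_mem_rel (P : R1 (A := A) J) (hP : P ∈ Ideal.span {eq1 J τ}) : d0 J P ∈ rel J τ := by
  obtain ⟨g, rfl⟩ := Ideal.mem_span_singleton'.1 hP
  rw [d0_mul, d0_eq1, base_eq1]
  exact add_mem (Submodule.mem_sup_right (Submodule.mem_span_singleton.2 ⟨_, rfl⟩))
    (Submodule.mem_sup_left ⟨d0 J g, rfl⟩)

theorem eq0_mul_eq_zero (g : R0 A) (h : eq0 J τ * g = 0) : g = 0 := by
  classical
  set v : Fin 2 →₀ ℕ := Finsupp.single 0 1 + Finsupp.single 1 1
  have hv : (X 0 * X 1 : R0 A) = monomial v 1 := by
    rw [MvPolynomial.X, MvPolynomial.X, monomial_mul, one_mul]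
  have step : ∀ d, g.coeff d = τ.fst * g.coeff (v + d) := by
    intro d
    have h1 := congrArg (MvPolynomial.coeff (v + d)) h
    rwa [eq0, sub_mul, hv, coeff_sub, coeff_monomial_mul, one_mul, coeff_C_mul, coeff_zero, sub_eq_zero] at h1
  have iter : ∀ (k : ℕ) (d : Fin 2 →₀ ℕ), g.coeff d = τ.fst ^ k * g.coeff (k • v + d) := by
    intro k
    induction k with
    | zero => intro d; simp
    | succ k ih =>
      intro d
      rw [ih, step (k • v + d), succ_nsmul, pow_succ, mul_assoc]
      congr 2
      congr 1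
      abel
  refine MvPolynomial.ext _ _ fun d => ?_
  rw [iter (g.totalDegree + 1) d, coeff_zero]
  rw [coeff_eq_zero_of_totalDegree_lt, mul_zero]
  set e : Fin 2 →₀ ℕ := (g.totalDegree + 1) • v + d
  have he : g.totalDegree + 1 ≤ e 0 := by simp [e, v]
  have hmem : (0 : Fin 2) ∈ e.support := by rw [Finsupp.mem_support_iff]; omega
  calc g.totalDegree < e 0 := by omega
    _ ≤ ∑ i ∈ e.support, e i := Finset.single_le_sum (f := fun i => e i) (fun _ _ => Nat.zero_le _) hmem

theorem exists_of_X_mul_eq (a b : R0 A) (h : a * X 0 = b * X 1) : ∃ e, a = e * X 1 := by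
  classical
  refine ⟨a.divMonomial (Finsupp.single 1 1), ?_⟩
  have : a.modMonomial (Finsupp.single 1 1) = 0 := by
    refine MvPolynomial.ext _ _ fun d => ?_
    rw [coeff_zero]
    by_cases hd : Finsupp.single 1 1 ≤ d
    · exact coeff_modMonomial_of_le _ hd
    · rw [coeff_modMonomial_of_not_le _ hd]
      have h1 := congrArg (MvPolynomial.coeff (d + Finsupp.single 0 1)) h
      rw [coeff_mul_X, coeff_mul_X', if_neg] at h1
      · exact h1
      · rw [Finsupp.mem_support_iff, not_not]
        have : d 1 = 0 := by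
          by_contra hne
          exact hd (Finsupp.single_le_iff.2 (Nat.one_le_iff_ne_zero.2 hne))
        simp [this]
  conv_lhs => rw [← divMonomial_add_modMonomial a (Finsupp.single 1 1), this, add_zero]
  rw [MvPolynomial.X, mul_comm]

theorem mem_of_mem_rel (z : M0 (A := A) J) (h : ((z, 0, 0) : N0 (A := A) J) ∈ rel J τ) :
    ∃ q : M0 (A := A) J, z = eq0 J τ • q := by
  obtain ⟨_, ⟨n, rfl⟩, _, hc', heq⟩ := Submodule.mem_sup.1 h
  obtain ⟨c, rfl⟩ := Submodule.mem_span_singleton.1 hc'
  obtain ⟨n0, n1, n2⟩ := n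
  simp only [LinearMap.lsmul_apply, relVec, Prod.smul_mk, Prod.mk_add_mk, Prod.mk.injEq, smul_eq_mul] at heq
  obtain ⟨h0, h1, h2⟩ := heq
  have h3 : n1 * X 0 = n2 * X 1 := by
    refine sub_eq_zero.1 (eq0_mul_eq_zero J τ _ ?_)
    linear_combination (X 0 : R0 A) * h1 - (X 1 : R0 A) * h2
  obtain ⟨e, rfl⟩ := exists_of_X_mul_eq n1 n2 h3
  have h4 : c = -(eq0 J τ * e) := by
    refine (MvPolynomial.isRegular_X (n := (1 : Fin 2))).right ?_
    show c * X 1 = -(eq0 J τ * e) * X 1
    linear_combination h1
  refine ⟨n0 + e • ((1 : R0 A) ⊗ₜ[A] τ.snd), ?_⟩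
  rw [← h0, h4, smul_add, smul_smul, neg_smul, smul_neg, neg_neg]

/-- The inverse of the decomposition, on the part in `J`. -/
noncomputable def glue : M0 (A := A) J →ₗ[A] R1 (A := A) J :=
  TensorProduct.lift (LinearMap.mk₂ A
    (fun r j => MvPolynomial.map (TrivSqZeroExt.inlHom A J) r * C (TrivSqZeroExt.inr j))
    (fun r r' j => by rw [map_add, add_mul])
    (fun c r j => by
      rw [Algebra.smul_def, Algebra.smul_def, map_mul, mul_assoc, MvPolynomial.algebraMap_eq, map_C,
        MvPolynomial.algebraMap_apply]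
      rfl)
    (fun r j j' => by rw [TrivSqZeroExt.inr_add, map_add, mul_add])
    (fun c r j => by
      rw [TrivSqZeroExt.inr_smul, Algebra.smul_def, map_mul, Algebra.smul_def, MvPolynomial.algebraMap_apply]
      exact mul_left_comm _ _ _))

theorem glue_split (P : R1 (A := A) J) :
    MvPolynomial.map (TrivSqZeroExt.inlHom A J) (base J P) + glue J (split J P).snd = P := by
  have hmul : ∀ (r : R0 A) (m : M0 (A := A) J),
      glue J (r • m) = MvPolynomial.map (TrivSqZeroExt.inlHom A J) r * glue J m := by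
    intro r m
    induction m using TensorProduct.induction_on with
    | zero => simp
    | tmul s j => simp [glue, TensorProduct.smul_tmul', mul_assoc]
    | add a b ha hb => rw [smul_add, map_add, ha, hb, map_add, mul_add]
  have hsq : ∀ m m' : M0 (A := A) J, glue J m * glue J m' = 0 := by
    intro m m'
    induction m using TensorProduct.induction_on with
    | zero => simp
    | tmul s j =>
      induction m' using TensorProduct.induction_on with
      | zero => simp
      | tmul s' j' =>
        simp only [glue, TensorProduct.lift.tmul, LinearMap.mk₂_apply]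
        rw [mul_mul_mul_comm, ← map_mul C, TrivSqZeroExt.inr_mul_inr, map_zero, mul_zero]
      | add a b ha hb => rw [map_add, mul_add, ha, hb, add_zero]
    | add a b ha hb => rw [map_add, add_mul, ha, hb, add_zero]
  induction P using MvPolynomial.induction_on with
  | C a =>
    rw [base_apply, split_C]
    simp [glue, ← map_add C, TrivSqZeroExt.inl_fst_add_inr_snd_eq]
  | add P Q hP hQ =>
    rw [map_add, map_add, map_add, TrivSqZeroExt.snd_add, map_add]
    linear_combination hP + hQ
  | mul_X P i hP =>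
    have hb : base (A := A) J (X i) = X i := by simp [base_apply, split_X]
    rw [map_mul, map_mul, hb, map_mul, map_X, TrivSqZeroExt.snd_mul, split_X, TrivSqZeroExt.snd_inl, smul_zero,
      zero_add, TrivSqZeroExt.fst_inl, op_smul_eq_smul, hmul, map_X]
    linear_combination (X i : R1 (A := A) J) * hP

theorem split_glue (m : M0 (A := A) J) : split J (glue J m) = TrivSqZeroExt.inr m := by
  induction m using TensorProduct.induction_on with
  | zero => simp
  | tmul r j =>
    simp only [glue, TensorProduct.lift.tmul, LinearMap.mk₂_apply, map_mul, split_C]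
    have hmap : ∀ r : R0 A, split J (MvPolynomial.map (TrivSqZeroExt.inlHom A J) r) = TrivSqZeroExt.inl r := by
      intro r
      suffices h : (split (A := A) J).comp (MvPolynomial.map (TrivSqZeroExt.inlHom A J)) = TrivSqZeroExt.inlHom _ _ from
        RingHom.congr_fun h r
      apply MvPolynomial.ringHom_ext <;> intro i <;> simp [split_C, split_X]
    simp [hmap, TrivSqZeroExt.inl_mul_inr, TensorProduct.smul_tmul']
  | add a b ha hb => rw [map_add, map_add, ha, hb, TrivSqZeroExt.inr_add]

/-- Elements with no constant part whose derivative is a relation lie in the ideal of the equation. -/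
theorem mem_span_of_d0_mem (P : R1 (A := A) J) (h0 : base J P = 0) (h : d0 J P ∈ rel J τ) :
    P ∈ Ideal.span {eq1 J τ} := by
  obtain ⟨q, hq⟩ := mem_of_mem_rel J τ (split J P).snd (by simpa [d0, h0] using h)
  refine Ideal.mem_span_singleton'.2 ⟨glue J q, ?_⟩
  have hb : base J (glue J q * eq1 J τ) = 0 := by
    rw [map_mul, base_apply, split_glue, TrivSqZeroExt.fst_inr, zero_mul]
  have h1 := glue_split J (glue J q * eq1 J τ)
  have h2 := glue_split J P
  rw [h0, map_zero, zero_add] at h2
  rw [hb, map_zero, zero_add] at h1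
  rw [← h1, ← h2, hq]
  congr 1
  rw [map_mul, split_glue, split_eq1]
  simp [TrivSqZeroExt.snd_mul, op_smul_eq_smul]

/-- Injectivity of the first map of the conormal sequence. -/
theorem injective_kerToTensor
    (B' : Type u) [CommRing B'] [Algebra (TrivSqZeroExt A J) B'] [Algebra A B']
    [IsScalarTower A (TrivSqZeroExt A J) B'] (x y : B')
    (hsurj : Function.Surjective
      (MvPolynomial.aeval ![x, y] : MvPolynomial (Fin 2) (TrivSqZeroExt A J) →ₐ[TrivSqZeroExt A J] B'))
    (hker : RingHom.ker
      (MvPolynomial.aeval ![x, y] : MvPolynomial (Fin 2) (TrivSqZeroExt A J) →ₐ[TrivSqZeroExt A J] B') =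
      Ideal.span {MvPolynomial.X 0 * MvPolynomial.X 1 - MvPolynomial.C τ}) :
    Function.Injective (KaehlerDifferential.kerToTensor A B'
      (B' ⧸ Ideal.map (algebraMap (TrivSqZeroExt A J) B') (TrivSqZeroExt.kerIdeal A J))) := by
  classical
  set π := (MvPolynomial.aeval ![x, y] : R1 (A := A) J →ₐ[TrivSqZeroExt A J] B').toRingHom
  set I := Ideal.map (algebraMap (TrivSqZeroExt A J) B') (TrivSqZeroExt.kerIdeal A J)
  have hπker : RingHom.ker π = Ideal.span {eq1 J τ} := hker
  let N := N0 (A := A) J ⧸ rel J τ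
  have htors : Module.IsTorsionBySet (R0 A) N (Ideal.span {eq0 J τ} : Set (R0 A)) := by
    rintro m ⟨a, ha⟩
    obtain ⟨c, rfl⟩ := Ideal.mem_span_singleton'.1 ha
    obtain ⟨n, rfl⟩ := Submodule.Quotient.mk_surjective _ m
    show (c * eq0 J τ) • Submodule.Quotient.mk n = 0
    rw [← Submodule.Quotient.mk_smul, Submodule.Quotient.mk_eq_zero]
    exact Submodule.mem_sup_left ⟨c • n, by rw [LinearMap.lsmul_apply, smul_smul, mul_comm]⟩
  letI := htors.module
  let ρ : R1 (A := A) J →+* R0 A ⧸ Ideal.span {eq0 J τ} := (Ideal.Quotient.mk _).comp (base J)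
  have hρ : RingHom.ker π ≤ RingHom.ker ρ := by
    rw [hπker, Ideal.span_le, Set.singleton_subset_iff, SetLike.mem_coe, RingHom.mem_ker]
    show Ideal.Quotient.mk _ (base J (eq1 J τ)) = 0
    rw [base_eq1, Ideal.Quotient.eq_zero_iff_mem]
    exact Ideal.mem_span_singleton_self _
  let β : B' →+* R0 A ⧸ Ideal.span {eq0 J τ} := RingHom.liftOfSurjective π hsurj ⟨ρ, hρ⟩
  have hβ : ∀ P, β (π P) = ρ P := fun P => RingHom.liftOfSurjective_comp_apply π hsurj ⟨ρ, hρ⟩ P
  letI : Module B' N := Module.compHom N β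
  have hsmul : ∀ (P : R1 (A := A) J) (n : N0 (A := A) J),
      (π P) • (Submodule.Quotient.mk n : N) = Submodule.Quotient.mk (base J P • n) := by
    intro P n
    show β (π P) • (Submodule.Quotient.mk n : N) = _
    rw [hβ]
    rfl
  have halg : ∀ a : A, algebraMap A B' a = π (C (TrivSqZeroExt.inl a)) := fun a => by
    show _ = MvPolynomial.aeval _ (C _)
    rw [aeval_C, IsScalarTower.algebraMap_apply A (TrivSqZeroExt A J) B']
    rfl
  have hbC : ∀ a : A, base J (C (TrivSqZeroExt.inl a)) = C a := fun a => by simp [base_apply, split_C]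
  haveI : IsScalarTower A B' N := IsScalarTower.of_algebraMap_smul fun a m => by
    obtain ⟨n, rfl⟩ := Submodule.Quotient.mk_surjective _ m
    rw [halg, hsmul, hbC]
    exact congrArg Submodule.Quotient.mk (algebraMap_smul (R0 A) a n)
  let D : B' → N := fun b => Submodule.Quotient.mk (d0 J (Function.surjInv hsurj b))
  have hD : ∀ P, D (π P) = Submodule.Quotient.mk (d0 J P) := by
    intro P
    refine (Submodule.Quotient.eq _).2 ?_
    have hmem : Function.surjInv hsurj (π P) - P ∈ Ideal.span {eq1 J τ} := by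
      rw [← hπker, RingHom.mem_ker, map_sub, sub_eq_zero]
      exact Function.surjInv_eq hsurj (π P)
    have := d0_mem_rel J τ _ hmem
    rwa [show d0 J (Function.surjInv hsurj (π P)) - d0 J P = d0 J (Function.surjInv hsurj (π P) - P) from by
      rw [sub_eq_iff_eq_add, ← d0_add, sub_add_cancel]]
  have hDadd : ∀ a b, D (a + b) = D a + D b := by
    intro a b
    obtain ⟨P, rfl⟩ := hsurj a
    obtain ⟨Q, rfl⟩ := hsurj b
    show D (π P + π Q) = D (π P) + D (π Q)
    rw [← map_add, hD, hD, hD, d0_add]
    rfl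
  have hDmul : ∀ a b, D (a * b) = a • D b + b • D a := by
    intro a b
    obtain ⟨P, rfl⟩ := hsurj a
    obtain ⟨Q, rfl⟩ := hsurj b
    show D (π P * π Q) = π P • D (π Q) + π Q • D (π P)
    rw [← map_mul, hD, hD, hD, d0_mul, hsmul, hsmul]
    rfl
  have hDA : ∀ a : A, D (algebraMap A B' a) = 0 := by
    intro a
    rw [halg, hD, Submodule.Quotient.mk_eq_zero]
    have : d0 J (C (TrivSqZeroExt.inl a) : R1 (A := A) J) = 0 := by
      simp [d0, hbC, split_C]
    rw [this]; exact zero_mem _
  let Dlin : B' →ₗ[A] N :=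
    { toFun := D
      map_add' := hDadd
      map_smul' := fun a b => by
        rw [Algebra.smul_def, hDmul, hDA, smul_zero, add_zero, RingHom.id_apply, algebraMap_smul] }
  let Dder : Derivation A B' N := Derivation.mk' Dlin hDmul
  rw [injective_iff_map_eq_zero]
  intro z hz
  have hzI : (z : B') ∈ I := Ideal.Quotient.eq_zero_iff_mem.1 z.2
  have hIN : ∀ b ∈ I, ∀ m : N, b • m = 0 := by
    intro b hb m
    have hle : I ≤ RingHom.ker β := by
      rw [Ideal.map_le_iff_le_comap]
      intro e he
      obtain ⟨n, rfl⟩ := Submodule.Quotient.mk_surjective _ m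
      show β (algebraMap (TrivSqZeroExt A J) B' e) = 0
      have : algebraMap (TrivSqZeroExt A J) B' e = π (C e) := (aeval_C _ e).symm
      rw [this, hβ]
      show Ideal.Quotient.mk _ (base J (C e)) = 0
      have he' : e.fst = 0 := he
      simp [base_apply, split_C, he']
    show β b • m = 0
    exact (congrArg (fun s => s • m) (RingHom.mem_ker.1 (hle hb))).trans (zero_smul (R0 A ⧸ Ideal.span {eq0 J τ}) m)
  have h1 : (Submodule.Quotient.mk (KaehlerDifferential.D A B' (z : B')) :
      (Ω[B'⁄A]) ⧸ (I • ⊤ : Submodule B' (Ω[B'⁄A]))) = 0 := by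
    have h := congrArg (TensorProduct.quotTensorEquivQuotSMul (Ω[B'⁄A]) I) hz
    rw [map_zero] at h
    rw [← h]
    show _ = TensorProduct.quotTensorEquivQuotSMul (Ω[B'⁄A]) I ((Ideal.Quotient.mk I 1) ⊗ₜ[B'] KaehlerDifferential.D A B' (z : B'))
    rw [TensorProduct.quotTensorEquivQuotSMul_mk_tmul, one_smul]
  rw [Submodule.Quotient.mk_eq_zero] at h1
  have h2 : D (z : B') = 0 := by
    have hle : (I • ⊤ : Submodule B' (Ω[B'⁄A])) ≤ LinearMap.ker Dder.liftKaehlerDifferential := by
      rw [Submodule.smul_le]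
      intro b hb w _
      rw [LinearMap.mem_ker, map_smul, hIN b hb]
    have := hle h1
    rwa [LinearMap.mem_ker, Derivation.liftKaehlerDifferential_comp_D] at this
  obtain ⟨P, hPJ, hPz⟩ : ∃ P : R1 (A := A) J, base J P = 0 ∧ π P = (z : B') := by
    have hI : I ≤ (RingHom.ker (base (A := A) J)).map π := by
      rw [Ideal.map_le_iff_le_comap]
      intro e he
      have he' : e.fst = 0 := he
      rw [Ideal.mem_comap]
      have : algebraMap (TrivSqZeroExt A J) B' e = π (C e) := (aeval_C _ e).symm
      rw [this]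
      exact Ideal.mem_map_of_mem _ (by simp [RingHom.mem_ker, base_apply, split_C, he'])
    obtain ⟨P, hP, hPz⟩ := (Ideal.mem_map_iff_of_surjective π hsurj).1 (hI hzI)
    exact ⟨P, hP, hPz⟩
  rw [← hPz, hD, Submodule.Quotient.mk_eq_zero] at h2
  have h3 := mem_span_of_d0_mem J τ P hPJ h2
  rw [← hπker, RingHom.mem_ker, hPz] at h3
  exact Subtype.ext h3

end Groth.Agent.CAlg24.Nodal
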