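import Mathlib.RingTheory.Unramified.Basic
import Mathlib.Algebra.TrivSqZeroExt.Basic
import Mathlib.Data.Matrix.Mul
import Mathlib.Algebra.MvPolynomial.Eval
import Mathlib.RingTheory.Ideal.Quotient.Operations

/-!
The scheme of a commutative p-Lie algebra: tangent vectors at the origin.
-/

namespace Groth.Agent.CAlg24

universe u

open Matrix

theorem eq_zero_of_formallyUnramified (p : ℕ) (hp : 2 ≤ p) {A : Type u} [CommRing A] {n : ℕ}
    (h : Matrix (Fin n) (Fin n) A) (v : Fin n → MvPolynomial (Fin n) A)
    (hv : ∀ j, v j = MvPolynomial.X j ^ p - ∑ i : Fin n, MvPolynomial.C (h i j) * MvPolynomial.X i)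
    [Algebra.FormallyUnramified A (MvPolynomial (Fin n) A ⧸ Ideal.span (Set.range v))]
    (k : Type u) [CommRing k] [Algebra A k] (c : Fin n → k)
    (hc : vecMul c (h.map (algebraMap A k)) = 0) : c = 0 := by
  classical
  obtain ⟨q, rfl⟩ := Nat.exists_eq_add_of_le hp
  let mkHom : ∀ d : Fin n → k, vecMul d (h.map (algebraMap A k)) = 0 →
      ((MvPolynomial (Fin n) A ⧸ Ideal.span (Set.range v)) →ₐ[A] TrivSqZeroExt k k) := fun d hd =>
    Ideal.Quotient.liftₐ _ (MvPolynomial.aeval fun i => (TrivSqZeroExt.inr (d i) : TrivSqZeroExt k k))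
      (fun a ha => by
        have hle : Ideal.span (Set.range v) ≤
            RingHom.ker (MvPolynomial.aeval fun i => (TrivSqZeroExt.inr (d i) : TrivSqZeroExt k k)) := by
          rw [Ideal.span_le]
          rintro _ ⟨j, rfl⟩
          have hj := congrFun hd j
          simp only [vecMul, dotProduct, Matrix.map_apply, Pi.zero_apply] at hj
          simp only [hv, SetLike.mem_coe, RingHom.mem_ker, map_sub, map_sum, map_mul, map_pow,
            MvPolynomial.aeval_X, MvPolynomial.aeval_C, pow_add, pow_two,
            TrivSqZeroExt.inr_mul_inr, zero_mul, zero_sub, neg_eq_zero]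
          ext
          · simp [TrivSqZeroExt.fst_sum, TrivSqZeroExt.algebraMap_eq_inl']
          · simp [TrivSqZeroExt.snd_sum, TrivSqZeroExt.algebraMap_eq_inl', smul_eq_mul]
            exact (Finset.sum_congr rfl fun i _ => by ring).trans hj
        exact RingHom.mem_ker.1 (hle ha))
  have heq := Algebra.FormallyUnramified.lift_unique_of_ringHom
    ((TrivSqZeroExt.fstHom k k k).toRingHom : TrivSqZeroExt k k →+* k) ⟨2, by
      rw [Submodule.zero_eq_bot, eq_bot_iff, pow_two, Ideal.mul_le]
      intro x hx y hy
      have hx' : x.fst = 0 := hx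
      have hy' : y.fst = 0 := hy
      show x * y = 0
      ext <;> simp [hx', hy']⟩
    (mkHom c hc) (mkHom 0 (Matrix.zero_vecMul _)) (by
      apply Ideal.Quotient.ringHom_ext
      apply MvPolynomial.ringHom_ext <;> intro i <;> simp [mkHom])
  funext i
  have := congrArg TrivSqZeroExt.snd (DFunLike.congr_fun heq (Ideal.Quotient.mk _ (MvPolynomial.X i)))
  simpa [mkHom] using this

end Groth.Agent.CAlg24
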