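import Mathlib.RingTheory.Smooth.AdicCompletion
import Mathlib.RingTheory.AdicCompletion.RingHom
import Mathlib.RingTheory.PowerSeries.Trunc
import Mathlib.RingTheory.Polynomial.Basic
import Mathlib.RingTheory.PowerSeries.Inverse
import Mathlib.Algebra.Polynomial.AlgebraMap

/-!
A complete algebra with formally smooth quotient by a nonzerodivisor is a power series ring.
-/

set_option autoImplicit false

namespace Groth.Agent.CAlg24

universe u

open PowerSeries

theorem exists_powerSeries_algEquiv (k A : Type u) [CommRing k]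
    [CommRing A] [Algebra k A] (x : A) (hx : x ∈ nonZeroDivisors A)
    [IsAdicComplete (Ideal.span {x}) A] [Algebra.FormallySmooth k (A ⧸ Ideal.span {x})] :
    ∃ e : PowerSeries (A ⧸ Ideal.span {x}) ≃ₐ[k] A,
      e PowerSeries.X = x ∧
      ∀ f : PowerSeries (A ⧸ Ideal.span {x}),
        Ideal.Quotient.mk (Ideal.span {x}) (e f) = PowerSeries.constantCoeff f := by
  classical
  set I := Ideal.span {x} with hI
  set B := A ⧸ I
  obtain ⟨s, hs⟩ := Algebra.FormallySmooth.exists_mkₐ_comp_eq_of_isAdicComplete
    (R := k) (S := A) (I := I) (AlgHom.id k B)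
  have hs' : ∀ b, Ideal.Quotient.mk _ (s b) = b := fun b => AlgHom.congr_fun hs b
  let Ψ : Polynomial B →ₐ[k] A := Polynomial.aevalTower s x
  have hΨX : Ψ Polynomial.X = x := by simp [Ψ]
  have hΨC : ∀ b, Ψ (Polynomial.C b) = s b := fun b => by simp [Ψ]
  have hdvd : ∀ (n : ℕ) (p q : Polynomial B), (∀ m < n, p.coeff m = q.coeff m) →
      Ideal.Quotient.mk (I ^ n) (Ψ p) = Ideal.Quotient.mk (I ^ n) (Ψ q) := by
    intro n p q hpq
    obtain ⟨r, hr⟩ : Polynomial.X ^ n ∣ p - q :=
      Polynomial.X_pow_dvd_iff.2 fun m hm => by rw [Polynomial.coeff_sub, hpq m hm, sub_self]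
    rw [Ideal.Quotient.eq, ← map_sub, hr, map_mul, map_pow, hΨX]
    exact Ideal.mul_mem_right _ _ (Ideal.pow_mem_pow (Ideal.mem_span_singleton_self x) n)
  let φ : ∀ n : ℕ, PowerSeries B →ₐ[k] A ⧸ I ^ n := fun n =>
    { toFun := fun f => Ideal.Quotient.mk _ (Ψ (trunc n f))
      map_one' := by
        rw [← map_one (Ideal.Quotient.mk (I ^ n)), ← map_one Ψ]
        exact hdvd n _ _ fun m hm => by simp [coeff_trunc, hm, Polynomial.coeff_one, PowerSeries.coeff_one]
      map_mul' := fun f g => by
        rw [← map_mul (Ideal.Quotient.mk (I ^ n)), ← map_mul Ψ]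
        refine hdvd n _ _ fun m hm => ?_
        rw [coeff_trunc, if_pos hm, coeff_mul_eq_coeff_trunc_mul_trunc f g hm]
        rw [← Polynomial.coe_mul, Polynomial.coeff_coe]
      map_zero' := by simp
      map_add' := fun f g => by simp
      commutes' := fun c => by
        rw [show algebraMap k (A ⧸ I ^ n) c = Ideal.Quotient.mk _ (algebraMap k A c) from rfl, ← Ψ.commutes c]
        refine hdvd n _ _ fun m hm => ?_
        rw [coeff_trunc, if_pos hm, IsScalarTower.algebraMap_apply k B (PowerSeries B), ← PowerSeries.C_eq_algebraMap,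
          coeff_C, IsScalarTower.algebraMap_apply k B (Polynomial B), ← Polynomial.C_eq_algebraMap, Polynomial.coeff_C] }
  have hφ : ∀ {m n : ℕ} (hle : m ≤ n),
      (Ideal.Quotient.factorₐ k (Ideal.pow_le_pow_right hle)).comp (φ n) = φ m := fun {m n} hle =>
    AlgHom.ext fun f => hdvd m _ _ fun i hi => by
      rw [coeff_trunc, coeff_trunc, if_pos hi, if_pos (hi.trans_le hle)]
  let e := IsAdicComplete.liftAlgHom I φ hφ
  have he : ∀ n f, Ideal.Quotient.mk (I ^ n) (e f) = Ideal.Quotient.mk (I ^ n) (Ψ (trunc n f)) := fun n f =>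
    IsAdicComplete.mk_liftAlgHom I φ hφ n f
  have hconst : ∀ f, Ideal.Quotient.mk I (e f) = constantCoeff f := fun f => by
    have h1 := Ideal.Quotient.eq.1 (he 1 f)
    rw [pow_one, trunc_one_left, hΨC] at h1
    rw [Ideal.Quotient.eq.2 h1, hs', coeff_zero_eq_constantCoeff]
  have heq : ∀ a b : A, (∀ n, Ideal.Quotient.mk (I ^ n) a = Ideal.Quotient.mk (I ^ n) b) → a = b := fun a b h =>
    (IsHausdorff.eq_iff_smodEq (I := I)).2 fun n => by
      rw [SModEq.sub_mem, smul_eq_mul, Ideal.mul_top]
      exact Ideal.Quotient.eq.1 (h n)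
  have hX : e X = x := heq _ _ fun n => by
    rw [he, ← hΨX]
    refine hdvd n _ _ fun m hm => ?_
    rw [coeff_trunc, if_pos hm, PowerSeries.coeff_X, Polynomial.coeff_X]
    simp [eq_comm]
  have hinj : Function.Injective e := by
    rw [injective_iff_map_eq_zero]
    intro f hf
    have key : ∀ (n : ℕ) (g : PowerSeries B), e g = 0 → coeff n g = 0 := by
      intro n
      induction n with
      | zero =>
        intro g hg
        rw [coeff_zero_eq_constantCoeff, ← hconst, hg, map_zero]
      | succ n ih =>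
        intro g hg
        obtain ⟨h, rfl⟩ : PowerSeries.X ∣ g := PowerSeries.X_dvd_iff.2 (by rw [← hconst, hg, map_zero])
        rw [map_mul, hX] at hg
        rw [coeff_succ_X_mul]
        exact ih h ((mul_left_mem_nonZeroDivisors_eq_zero_iff hx).1 hg)
    exact PowerSeries.ext fun n => by rw [key n f hf, map_zero]
  have hsurj : Function.Surjective e := by
    intro a
    have hstep : ∀ c : A, ∃ c' : A, c = s (Ideal.Quotient.mk I c) + x * c' := by
      intro c
      obtain ⟨c', hc'⟩ := Ideal.mem_span_singleton.1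
        (Ideal.Quotient.eq.1 (hs' (Ideal.Quotient.mk I c)).symm)
      exact ⟨c', by rw [← hc', add_sub_cancel]⟩
    choose next hnext using hstep
    let r : ℕ → A := fun n => next^[n] a
    let F : PowerSeries B := PowerSeries.mk fun n => Ideal.Quotient.mk I (r n)
    have hr : ∀ n, a = Ψ (trunc n F) + x ^ n * r n := by
      intro n
      induction n with
      | zero => simp [r]
      | succ n ih =>
        rw [trunc_succ, map_add, ← Polynomial.C_mul_X_pow_eq_monomial, map_mul, map_pow, hΨC, hΨX, coeff_mk]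
        refine ih.trans ?_
        have h1 := hnext (r n)
        rw [show r (n + 1) = next (r n) from Function.iterate_succ_apply' next n a, pow_succ]
        linear_combination (x ^ n) * h1
    refine ⟨F, heq _ _ fun n => ?_⟩
    rw [he, Ideal.Quotient.eq]
    have : Ψ (trunc n F) - a = -(x ^ n * r n) := by linear_combination -(hr n)
    rw [this]
    exact neg_mem (Ideal.mul_mem_right _ _ (Ideal.pow_mem_pow (Ideal.mem_span_singleton_self x) n))
  exact ⟨AlgEquiv.ofBijective e ⟨hinj, hsurj⟩, hX, hconst⟩

end Groth.Agent.CAlg24
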