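import Groth.Agent.CAlg24.SemilinearHensel
import Mathlib.LinearAlgebra.FreeModule.PID
import Mathlib.RingTheory.LocalRing.Module
import Mathlib.RingTheory.Henselian

/-!
Semilinear endomorphisms of finitely generated modules over strictly henselian principal local rings.
-/

set_option autoImplicit false

namespace Groth.Agent.CAlg24

universe u v

variable (p : ℕ) [Fact p.Prime] {R : Type u} [CommRing R] [CharP R p] [HenselianLocalRing R]
  [IsSepClosed (IsLocalRing.ResidueField R)]

/-- Surjectivity does not need an invertible matrix. -/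
theorem exists_sigmaMap_sub_eq {n : ℕ} (a : Matrix (Fin n) (Fin n) R) (y : Fin n → R) :
    ∃ x, sigmaMap p a x - x = y := by
  set k := IsLocalRing.ResidueField R
  let K := AlgebraicClosure k
  haveI : CharP k p := by
    refine (CharP.charP_iff_prime_eq_zero (Fact.out : p.Prime)).2 ?_
    rw [← map_natCast (IsLocalRing.residue R), CharP.cast_eq_zero R p, map_zero]
  haveI : CharP K p := charP_of_injective_algebraMap (algebraMap k K).injective p
  set ak := a.map (IsLocalRing.residue R)
  set aK := ak.map (algebraMap k K)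
  have hH : HenselianRing R (IsLocalRing.maximalIdeal R) :=
    ⟨(IsLocalRing.jacobson_eq_maximalIdeal ⊥ bot_ne_top).ge, fun f hf a₀ h₁ h₂ =>
      HenselianLocalRing.is_henselian f hf a₀ h₁ (isUnit_of_map_unit (IsLocalRing.residue R) _ h₂)⟩
  obtain ⟨v, hv⟩ := Groth.Agent.SigmaLin26.sub_surjective (σ := frobenius K p)
    (fun z => (frobeniusEquiv K p).surjective z)
    Groth.Agent.SigmaLin26.frob_solvable₁ Groth.Agent.SigmaLin26.frob_solvable₂
    ({ toFun := sigmaMap p aK, map_add' := sigmaMap_add p aK, map_smul' := sigmaMap_smul p aK } :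
      (Fin n → K) →ₛₗ[frobenius K p] (Fin n → K))
    (fun i => - algebraMap k K (IsLocalRing.residue R (y i)))
  obtain ⟨x₀, -, hx₀⟩ := exists_rat_solution p ak (fun i => IsLocalRing.residue R (y i)) v (fun i => by
    have := congrFun hv i
    simp only [Pi.sub_apply, LinearMap.coe_mk, AddHom.coe_mk] at this
    linear_combination -this)
  haveI := etale_solAlg p a y
  obtain ⟨φ, -⟩ := exists_algHom_of_solution p a y (S := R ⧸ IsLocalRing.maximalIdeal R) x₀ hx₀
  obtain ⟨τ, -⟩ := Groth.Agent.Hensel20.exists_lift_of_smooth (SolAlg p a y) φ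
  refine ⟨fun i => τ (Ideal.Quotient.mk _ (MvPolynomial.X i)), funext fun i => ?_⟩
  simpa [Matrix.map_id] using solution_of_algHom p a y τ i

theorem sub_surjective_of_free {M : Type v} [AddCommGroup M] [Module R M] [Module.Free R M]
    [Module.Finite R M] (T : M →+ M) (hT : ∀ (r : R) (m : M), T (r • m) = r ^ p • T m) (y : M) :
    ∃ x, T x - x = y := by
  classical
  let b := Module.finBasis R M
  let e := b.equivFun
  let a : Matrix (Fin (Module.finrank R M)) (Fin (Module.finrank R M)) R := Matrix.of fun i j => e (T (b j)) i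
  have hTa : ∀ m, e (T m) = sigmaMap p a (e m) := by
    intro m
    conv_lhs => rw [← b.sum_equivFun m, map_sum]
    simp only [hT, map_sum, map_smul]
    funext i
    simp [sigmaMap, a, Matrix.mulVec, dotProduct, Finset.sum_apply, mul_comm, e]
  obtain ⟨x, hx⟩ := exists_sigmaMap_sub_eq p a (e y)
  exact ⟨e.symm x, e.injective (by rw [map_sub, hTa, LinearEquiv.apply_symm_apply, hx])⟩

theorem sub_surjective_card_fixed [IsDomain R] [IsPrincipalIdealRing R]
    {M : Type v} [AddCommGroup M] [Module R M] [Module.Finite R M]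
    (T : M →+ M) (hT : ∀ (r : R) (m : M), T (r • m) = r ^ p • T m) (hsurj : Function.Surjective T) :
    Function.Surjective (fun m => T m - m) ∧
      Nat.card {m : M // T m = m} =
        p ^ Module.finrank (IsLocalRing.ResidueField R) (TensorProduct R (IsLocalRing.ResidueField R) M) := by
  classical
  set k := IsLocalRing.ResidueField R
  set n := Module.finrank k (TensorProduct R k M)
  let b : Module.Basis (Fin n) k (TensorProduct R k M) := Module.finBasis k _
  choose f hf using fun i => TensorProduct.mk_surjective R M k IsLocalRing.residue_surjective (b i)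
  let g : (Fin n → R) →ₗ[R] M := Fintype.linearCombination R f
  have hgb : ∀ v : Fin n → R, (1 : k) ⊗ₜ[R] g v = ∑ i, IsLocalRing.residue R (v i) • b i := by
    intro v
    simp only [g, Fintype.linearCombination_apply, TensorProduct.tmul_sum, TensorProduct.tmul_smul]
    refine Finset.sum_congr rfl fun i _ => ?_
    rw [← hf i]
    exact (algebraMap_smul k (v i) _).symm
  have hker : ∀ v, g v = 0 → ∀ i, v i ∈ IsLocalRing.maximalIdeal R := by
    intro v hv i
    rw [← IsLocalRing.residue_eq_zero_iff]
    refine Fintype.linearIndependent_iff.1 b.linearIndependent (fun i => IsLocalRing.residue R (v i)) ?_ i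
    rw [← hgb, hv, TensorProduct.tmul_zero]
  have hg : Function.Surjective g := by
    rw [← LinearMap.range_eq_top, ← IsLocalRing.map_tensorProduct_mk_eq_top, eq_top_iff]
    intro z _
    obtain ⟨v, hv⟩ : ∃ v : Fin n → R, ∀ i, IsLocalRing.residue R (v i) = b.equivFun z i :=
      ⟨_, fun i => (IsLocalRing.residue_surjective (b.equivFun z i)).choose_spec⟩
    refine ⟨g v, LinearMap.mem_range_self g v, ?_⟩
    show (1 : k) ⊗ₜ[R] g v = z
    rw [hgb]
    simp only [hv]
    exact b.sum_equivFun z
  choose c hc using fun j => hg (T (g (Pi.single j 1)))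
  let a : Matrix (Fin n) (Fin n) R := Matrix.of fun i j => c j i
  have hTg : ∀ v, T (g v) = g (sigmaMap p a v) := by
    intro v
    have h1 : v = ∑ j, v j • (Pi.single j 1 : Fin n → R) := pi_eq_sum_univ' v
    have h2 : sigmaMap p a v = ∑ j, v j ^ p • c j := by
      funext i
      simp [sigmaMap, a, Matrix.mulVec, dotProduct, Finset.sum_apply, mul_comm]
    rw [h2]
    conv_lhs => rw [h1, map_sum, map_sum]
    rw [map_sum]
    exact Finset.sum_congr rfl fun j _ => by rw [map_smul, hT, ← hc, map_smul]
  have ha : IsUnit a.det := by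
    refine isUnit_of_map_unit (IsLocalRing.residue R) _ ?_
    rw [RingHom.map_det, RingHom.mapMatrix_apply, ← Matrix.isUnit_iff_isUnit_det,
      ← Matrix.mulVec_surjective_iff_isUnit]
    intro z
    choose w hw using fun i => IsLocalRing.residue_surjective (z i)
    obtain ⟨m, hm⟩ := hsurj (g w)
    obtain ⟨x, rfl⟩ := hg m
    refine ⟨fun j => IsLocalRing.residue R (x j) ^ p, funext fun i => ?_⟩
    show sigmaMap p _ (fun j => IsLocalRing.residue R (x j)) i = z i
    rw [← map_sigmaMap, ← hw, ← sub_eq_zero, ← map_sub, IsLocalRing.residue_eq_zero_iff]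
    exact hker (sigmaMap p a x - w) (by rw [map_sub, ← hTg, hm, sub_self]) i
  obtain ⟨hsur, hcard⟩ := main p a ha
  refine ⟨fun m => ?_, ?_⟩
  · obtain ⟨v, rfl⟩ := hg m
    obtain ⟨x, hx⟩ := hsur v
    exact ⟨g x, by show T (g x) - g x = g v; rw [hTg, ← map_sub, hx]⟩
  · rw [← hcard]
    let F : {x : Fin n → R // sigmaMap p a x = x} → {m : M // T m = m} := fun x => ⟨g x.1, by rw [hTg, x.2]⟩
    refine (Nat.card_eq_of_bijective F ⟨fun x x' h => ?_, fun z => ?_⟩).symm
    · let φ : (Fin n → R) →+ (Fin n → R) := AddMonoidHom.mk' (sigmaMap p a) (sigmaMap_add p a)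
      have hd : sigmaMap p a (x.1 - x'.1) = x.1 - x'.1 := by
        show φ _ = _
        rw [map_sub]
        exact congrArg₂ (· - ·) x.2 x'.2
      refine Subtype.ext (sub_eq_zero.1 (eq_zero_of_fixed_of_mem p a _ hd (hker _ ?_)))
      rw [map_sub, sub_eq_zero]
      exact congrArg Subtype.val h
    · obtain ⟨x, hx⟩ := hg z.1
      let N := LinearMap.ker g
      let S : N →+ N := AddMonoidHom.mk'
        (fun v => ⟨sigmaMap p a v.1, by
          show g _ = 0
          rw [← hTg, LinearMap.mem_ker.1 v.2, map_zero]⟩)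
        (fun v w => Subtype.ext (sigmaMap_add p a v.1 w.1))
      obtain ⟨u, hu⟩ := sub_surjective_of_free p S (fun r v => Subtype.ext (sigmaMap_smul p a r v.1))
        ⟨-(sigmaMap p a x - x), by
          show g _ = 0
          rw [map_neg, map_sub, ← hTg, hx, z.2, sub_self, neg_zero]⟩
      have hu' : sigmaMap p a u.1 - u.1 = -(sigmaMap p a x - x) := congrArg Subtype.val hu
      refine ⟨⟨x + u.1, ?_⟩, Subtype.ext ?_⟩
      · rw [sigmaMap_add, ← sub_eq_zero]
        rw [eq_neg_iff_add_eq_zero] at hu'
        rw [← hu']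
        abel
      · show g (x + u.1) = z.1
        rw [map_add, hx, LinearMap.mem_ker.1 u.2, add_zero]

end Groth.Agent.CAlg24
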