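import Groth.Agent.Hensel20.SmoothSection
import Groth.Agent.SigmaLin26.Frob
import Groth.Agent.S16853
import Mathlib.RingTheory.Smooth.StandardSmoothOfFree
import Mathlib.RingTheory.Unramified.Field
import Mathlib.LinearAlgebra.Matrix.ToLinearEquiv
import Mathlib.RingTheory.Nakayama
import Mathlib.FieldTheory.IsAlgClosed.AlgebraicClosure
import Mathlib.FieldTheory.IsSepClosed

/-!
The equation `a x^(p) - x = y` over a strictly henselian local ring of characteristic `p`.
-/

set_option autoImplicit false

namespace Groth.Agent.CAlg24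

universe u

open Matrix

variable (p : ℕ) [Fact p.Prime] {n : ℕ}

/-- The semilinear map of a matrix. -/
def sigmaMap {R : Type u} [CommRing R] (a : Matrix (Fin n) (Fin n) R) (x : Fin n → R) : Fin n → R :=
  a.mulVec fun j => x j ^ p

theorem sigmaMap_add {R : Type u} [CommRing R] [CharP R p] (a : Matrix (Fin n) (Fin n) R) (x y : Fin n → R) :
    sigmaMap p a (x + y) = sigmaMap p a x + sigmaMap p a y := by
  rw [sigmaMap, sigmaMap, sigmaMap, ← mulVec_add]
  congr 1
  funext j
  exact add_pow_char (x j) (y j) p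

theorem sigmaMap_smul {R : Type u} [CommRing R] (a : Matrix (Fin n) (Fin n) R) (c : R) (x : Fin n → R) :
    sigmaMap p a (c • x) = c ^ p • sigmaMap p a x := by
  rw [sigmaMap, sigmaMap, ← mulVec_smul]
  congr 1
  funext j
  simp [mul_pow]

theorem map_sigmaMap {R S : Type u} [CommRing R] [CommRing S] (f : R →+* S) (a : Matrix (Fin n) (Fin n) R)
    (x : Fin n → R) (i : Fin n) : f (sigmaMap p a x i) = sigmaMap p (a.map f) (fun j => f (x j)) i := by
  simp [sigmaMap, mulVec, dotProduct]

section Equations

variable {R : Type u} [CommRing R] [CharP R p] (a : Matrix (Fin n) (Fin n) R) (y : Fin n → R)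

/-- The equations. -/
noncomputable def eqn : Fin n → MvPolynomial (Fin n) R := fun i =>
  (∑ j, MvPolynomial.C (a i j) * MvPolynomial.X j ^ p) - MvPolynomial.X i - MvPolynomial.C (y i)

theorem aeval_eqn {S : Type u} [CommRing S] [Algebra R S] (x : Fin n → S) (i : Fin n) :
    MvPolynomial.aeval x (eqn p a y i) =
      sigmaMap p (a.map (algebraMap R S)) x i - x i - algebraMap R S (y i) := by
  simp [eqn, sigmaMap, mulVec, dotProduct]

/-- The solution algebra. -/
abbrev SolAlg : Type u := MvPolynomial (Fin n) R ⧸ Ideal.span (Set.range (eqn p a y))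

theorem etale_solAlg : Algebra.Etale R (SolAlg p a y) := by
  classical
  let P := Algebra.PreSubmersivePresentation.naive (v := eqn p a y) id Function.injective_id
  have hj : IsUnit P.jacobian := by
    rw [Algebra.PreSubmersivePresentation.jacobian_eq_jacobiMatrix_det]
    apply IsUnit.map
    have hM : P.jacobiMatrix = -1 := by
      ext i j
      rw [Algebra.PreSubmersivePresentation.jacobiMatrix_naive]
      simp [eqn, MvPolynomial.pderiv_X, Pi.single_apply, Matrix.one_apply, eq_comm]
    rw [hM, Matrix.det_neg, Matrix.det_one, mul_one]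
    exact (isUnit_one.neg).pow _
  rw [Algebra.Etale.iff_isStandardSmoothOfRelativeDimension_zero]
  exact Algebra.SubmersivePresentation.isStandardSmoothOfRelativeDimension ⟨P, hj⟩
    (by simp [Algebra.Presentation.dimension])

theorem exists_algHom_of_solution {S : Type u} [CommRing S] [Algebra R S] (x : Fin n → S)
    (hx : ∀ i, sigmaMap p (a.map (algebraMap R S)) x i - x i = algebraMap R S (y i)) :
    ∃ φ : SolAlg p a y →ₐ[R] S, ∀ i, φ (Ideal.Quotient.mk _ (MvPolynomial.X i)) = x i := by
  refine ⟨Ideal.Quotient.liftₐ _ (MvPolynomial.aeval x) fun z hz => ?_, fun i => by simp⟩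
  have hle : Ideal.span (Set.range (eqn p a y)) ≤ RingHom.ker (MvPolynomial.aeval x) := by
    rw [Ideal.span_le]
    rintro _ ⟨i, rfl⟩
    rw [SetLike.mem_coe, RingHom.mem_ker, aeval_eqn, hx, sub_self]
  exact RingHom.mem_ker.1 (hle hz)

theorem solution_of_algHom {S : Type u} [CommRing S] [Algebra R S] (φ : SolAlg p a y →ₐ[R] S) (i : Fin n) :
    sigmaMap p (a.map (algebraMap R S)) (fun j => φ (Ideal.Quotient.mk _ (MvPolynomial.X j))) i -
      φ (Ideal.Quotient.mk _ (MvPolynomial.X i)) = algebraMap R S (y i) := by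
  have h := aeval_eqn p a y (fun j => φ (Ideal.Quotient.mk _ (MvPolynomial.X j))) i
  have h2 : MvPolynomial.aeval (fun j => φ (Ideal.Quotient.mk _ (MvPolynomial.X j))) =
      φ.comp (Ideal.Quotient.mkₐ R _) := MvPolynomial.algHom_ext fun j => by simp
  rw [h2, AlgHom.comp_apply, Ideal.Quotient.mkₐ_eq_mk,
    Ideal.Quotient.eq_zero_iff_mem.2 (Ideal.subset_span (Set.mem_range_self (f := eqn p a y) i)), map_zero] at h
  exact sub_eq_zero.1 h.symm

end Equations

/-- Solutions in an algebraic closure are rational over a separably closed field. -/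
theorem exists_rat_solution {k : Type u} [Field k] [IsSepClosed k] [CharP k p]
    {K : Type u} [Field K] [Algebra k K]
    (a : Matrix (Fin n) (Fin n) k) (y : Fin n → k) (x : Fin n → K)
    (hx : ∀ i, sigmaMap p (a.map (algebraMap k K)) x i - x i = algebraMap k K (y i)) :
    ∃ x₀ : Fin n → k, (∀ i, algebraMap k K (x₀ i) = x i) ∧ ∀ i, sigmaMap p a x₀ i - x₀ i = y i := by
  obtain ⟨φ, hφ⟩ := exists_algHom_of_solution p a y x hx
  haveI := etale_solAlg p a y
  haveI : Algebra.FormallyUnramified k φ.range :=
    Algebra.FormallyUnramified.of_surjective φ.rangeRestrict φ.rangeRestrict_surjective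
  haveI : Module.Finite k (SolAlg p a y) := Algebra.FormallyUnramified.finite_of_free k _
  haveI : Module.Finite k φ.range :=
    Module.Finite.of_surjective φ.rangeRestrict.toLinearMap φ.rangeRestrict_surjective
  letI : Field φ.range := (isField_of_isIntegral_of_isField' (R := k) (Field.toIsField k)).toField
  haveI := Algebra.FormallyUnramified.isSeparable k φ.range
  have hrat : ∀ i, ∃ c : k, algebraMap k K c = x i := by
    intro i
    obtain ⟨c, hc⟩ := IsSepClosed.algebraMap_surjective k φ.range ⟨x i, _, hφ i⟩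
    exact ⟨c, congrArg Subtype.val hc⟩
  choose x₀ hx₀ using hrat
  refine ⟨x₀, hx₀, fun i => (algebraMap k K).injective ?_⟩
  rw [map_sub, map_sigmaMap p (algebraMap k K) a x₀ i, funext hx₀, hx₀]
  exact hx i

theorem natCard_pow_eq_self (K : Type u) [Field K] [CharP K p] :
    Nat.card {c : K // c ^ p = c} = p := by
  classical
  have hp := (Fact.out : p.Prime)
  let P : Polynomial K := Polynomial.X ^ p - Polynomial.X
  have hP : P ≠ 0 := FiniteField.X_pow_card_sub_X_ne_zero K hp.one_lt
  let f : ZMod p → {c : K // c ^ p = c} := fun z => ⟨ZMod.castHom dvd_rfl K z, by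
    rw [← map_pow, ZMod.pow_card]⟩
  have hf : Function.Injective f := fun z w h => (ZMod.castHom dvd_rfl K).injective (congrArg Subtype.val h)
  haveI : Finite {c : K // c ^ p = c} :=
    Finite.of_injective (fun c => (⟨c.1, by
      rw [Multiset.mem_toFinset, Polynomial.mem_roots hP]; simp [P, c.2]⟩ : P.roots.toFinset))
      fun c d h => by simpa [Subtype.ext_iff] using h
  refine le_antisymm ?_ (le_of_eq_of_le (Nat.card_zmod p).symm (Nat.card_le_card_of_injective f hf))
  calc Nat.card {c : K // c ^ p = c} ≤ Nat.card P.roots.toFinset :=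
        Nat.card_le_card_of_injective (fun c => (⟨c.1, by
          rw [Multiset.mem_toFinset, Polynomial.mem_roots hP]; simp [P, c.2]⟩ : P.roots.toFinset))
          fun c d h => by simpa [Subtype.ext_iff] using h
    _ ≤ p := by
      rw [Nat.card_eq_fintype_card, Fintype.card_coe]
      exact (Multiset.toFinset_card_le _).trans ((Polynomial.card_roots' P).trans
        (le_of_eq (FiniteField.X_pow_card_sub_X_natDegree_eq K hp.one_lt)))

theorem natCard_fixed_algClosed {K : Type u} [Field K] [IsAlgClosed K] [CharP K p]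
    (a : Matrix (Fin n) (Fin n) K) (ha : IsUnit a.det) :
    Nat.card {x : Fin n → K // sigmaMap p a x = x} = p ^ n := by
  let φ : (Fin n → K) →+ (Fin n → K) :=
    AddMonoidHom.mk' (sigmaMap p a) (sigmaMap_add p a)
  have hbij : Function.Bijective φ := by
    have h1 : Function.Bijective fun x : Fin n → K => fun j => x j ^ p := by
      have := (frobeniusEquiv K p).bijective
      exact Function.Bijective.piMap fun _ => this
    exact (show Function.Bijective a.mulVec from ⟨mulVec_injective_iff_isUnit.2 ((isUnit_iff_isUnit_det a).2 ha), mulVec_surjective_iff_isUnit.2 ((isUnit_iff_isUnit_det a).2 ha)⟩).comp h1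
  obtain ⟨ι, b, hb⟩ := Groth.Agent.S16853.result K p 1 le_rfl (Fin n → K) φ
    (fun c v => by rw [pow_one]; exact sigmaMap_smul p a c v) hbij
  haveI := Module.Finite.finite_basis b
  haveI := Fintype.ofFinite ι
  have key : ∀ c : ι → K, sigmaMap p a (∑ i, c i • b i) = ∑ i, c i ^ p • b i := by
    intro c
    show φ _ = _
    rw [map_sum]
    exact Finset.sum_congr rfl fun i _ => (sigmaMap_smul p a (c i) (b i)).trans (congrArg _ (hb i))
  let e : {x : Fin n → K // sigmaMap p a x = x} ≃ (ι → {c : K // c ^ p = c}) :=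
    { toFun := fun x i => ⟨b.equivFun x.1 i, by
        have h := congrArg b.equivFun (key (b.equivFun x.1))
        rw [b.sum_equivFun, x.2, ← b.equivFun_symm_apply, LinearEquiv.apply_symm_apply] at h
        exact (congrFun h i).symm⟩
      invFun := fun c => ⟨∑ i, (c i).1 • b i, by
        rw [key]; exact Finset.sum_congr rfl fun i _ => by rw [(c i).2]⟩
      left_inv := fun x => Subtype.ext (b.sum_equivFun x.1)
      right_inv := fun c => funext fun i => Subtype.ext (by
        show b.equivFun (∑ i, (c i).1 • b i) i = _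
        rw [← b.equivFun_symm_apply]
        exact congrFun (b.equivFun.apply_symm_apply _) i) }
  rw [Nat.card_congr e, Nat.card_fun, natCard_pow_eq_self, Nat.card_eq_fintype_card,
    ← Module.finrank_eq_card_basis b, Module.finrank_fin_fun]

variable {R : Type u} [CommRing R] [CharP R p]

theorem eq_zero_of_fixed_of_mem [IsLocalRing R] (a : Matrix (Fin n) (Fin n) R) (d : Fin n → R)
    (hd : sigmaMap p a d = d) (hm : ∀ i, d i ∈ IsLocalRing.maximalIdeal R) : d = 0 := by
  let I := Ideal.span (Set.range d)
  have hI : I ≤ IsLocalRing.maximalIdeal R • I := by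
    rw [Ideal.span_le]
    rintro _ ⟨i, rfl⟩
    suffices h : sigmaMap p a d i ∈ IsLocalRing.maximalIdeal R • I by rwa [congrFun hd i] at h
    show (∑ j, a i j * d j ^ p) ∈ IsLocalRing.maximalIdeal R • I
    refine Ideal.sum_mem _ fun j _ => Ideal.mul_mem_left _ _ ?_
    show d j ^ p ∈ _
    obtain ⟨q, hq⟩ := Nat.exists_eq_add_of_le (Fact.out : p.Prime).two_le
    rw [hq, pow_add, pow_two, smul_eq_mul]
    exact Ideal.mul_mem_right _ _ (Ideal.mul_mem_mul (hm j) (Ideal.subset_span ⟨j, rfl⟩))
  have h0 : I = ⊥ := Submodule.eq_bot_of_le_smul_of_le_jacobson_bot _ _ (Submodule.fg_span (Set.finite_range d))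
    hI (IsLocalRing.maximalIdeal_le_jacobson _)
  funext i
  exact (Ideal.mem_bot).1 (h0 ▸ Ideal.subset_span ⟨i, rfl⟩)

theorem main [HenselianLocalRing R] [IsSepClosed (IsLocalRing.ResidueField R)]
    (a : Matrix (Fin n) (Fin n) R) (ha : IsUnit a.det) :
    (∀ y, ∃ x, sigmaMap p a x - x = y) ∧ Nat.card {x : Fin n → R // sigmaMap p a x = x} = p ^ n := by
  set k := IsLocalRing.ResidueField R
  let K := AlgebraicClosure k
  haveI : CharP k p := by
    refine (CharP.charP_iff_prime_eq_zero (Fact.out : p.Prime)).2 ?_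
    rw [← map_natCast (IsLocalRing.residue R), CharP.cast_eq_zero R p, map_zero]
  haveI : CharP K p := charP_of_injective_algebraMap (algebraMap k K).injective p
  set ak := a.map (IsLocalRing.residue R)
  set aK := ak.map (algebraMap k K)
  have haK : IsUnit aK.det := by
    have h1 := (ha.map (IsLocalRing.residue R)).map (algebraMap k K)
    rwa [RingHom.map_det, RingHom.map_det, RingHom.mapMatrix_apply, RingHom.mapMatrix_apply] at h1
  have hH : HenselianRing R (IsLocalRing.maximalIdeal R) :=
    ⟨(IsLocalRing.jacobson_eq_maximalIdeal ⊥ bot_ne_top).ge, fun f hf a₀ h₁ h₂ =>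
      HenselianLocalRing.is_henselian f hf a₀ h₁ (isUnit_of_map_unit (IsLocalRing.residue R) _ h₂)⟩
  have lift : ∀ (y : Fin n → R) (x₀ : Fin n → k),
      (∀ i, sigmaMap p ak x₀ i - x₀ i = IsLocalRing.residue R (y i)) →
      ∃ x : Fin n → R, sigmaMap p a x - x = y ∧ ∀ i, IsLocalRing.residue R (x i) = x₀ i := by
    intro y x₀ hx₀
    haveI := etale_solAlg p a y
    obtain ⟨φ, hφ⟩ := exists_algHom_of_solution p a y (S := R ⧸ IsLocalRing.maximalIdeal R) x₀ hx₀
    obtain ⟨τ, hτ⟩ := Groth.Agent.Hensel20.exists_lift_of_smooth (SolAlg p a y) φ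
    refine ⟨fun i => τ (Ideal.Quotient.mk _ (MvPolynomial.X i)), funext fun i => ?_, fun i => ?_⟩
    · have h := solution_of_algHom p a y τ i
      simpa [Matrix.map_id] using h
    · rw [← hφ i, ← hτ]; rfl
  refine ⟨fun y => ?_, ?_⟩
  · obtain ⟨v, hv⟩ := Groth.Agent.SigmaLin26.sub_surjective (σ := frobenius K p)
      (fun z => (frobeniusEquiv K p).surjective z)
      Groth.Agent.SigmaLin26.frob_solvable₁ Groth.Agent.SigmaLin26.frob_solvable₂
      ({ toFun := sigmaMap p aK, map_add' := sigmaMap_add p aK, map_smul' := sigmaMap_smul p aK } :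
        (Fin n → K) →ₛₗ[frobenius K p] (Fin n → K))
      (fun i => - algebraMap k K (IsLocalRing.residue R (y i)))
    obtain ⟨x₀, -, hx₀⟩ := exists_rat_solution p ak (fun i => IsLocalRing.residue R (y i)) v (fun i => by
      have := congrFun hv i
      simp only [Pi.sub_apply, LinearMap.coe_mk, AddHom.coe_mk] at this
      linear_combination -this)
    obtain ⟨x, hx, -⟩ := lift y x₀ hx₀
    exact ⟨x, hx⟩
  · rw [← natCard_fixed_algClosed p aK haK]
    let F : {x : Fin n → R // sigmaMap p a x = x} → {x : Fin n → K // sigmaMap p aK x = x} := fun x =>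
      ⟨fun i => algebraMap k K (IsLocalRing.residue R (x.1 i)), funext fun i => by
        conv_rhs => rw [← x.2]
        rw [map_sigmaMap, map_sigmaMap]⟩
    refine Nat.card_eq_of_bijective F ⟨fun x x' h => ?_, fun z => ?_⟩
    · have hd : sigmaMap p a (x.1 - x'.1) = x.1 - x'.1 := by
        let φ : (Fin n → R) →+ (Fin n → R) := AddMonoidHom.mk' (sigmaMap p a) (sigmaMap_add p a)
        show φ _ = _
        rw [map_sub]
        exact congrArg₂ (· - ·) x.2 x'.2
      refine Subtype.ext (sub_eq_zero.1 (eq_zero_of_fixed_of_mem p a _ hd fun i => ?_))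
      rw [← IsLocalRing.residue_eq_zero_iff, Pi.sub_apply, map_sub, sub_eq_zero]
      exact (algebraMap k K).injective (congrFun (congrArg Subtype.val h) i)
    · obtain ⟨x₀, hx₀z, hx₀⟩ := exists_rat_solution p ak 0 z.1 (fun i => by
        simp only [Pi.zero_apply, map_zero, sub_eq_zero]; exact congrFun z.2 i)
      obtain ⟨x, hx, hxr⟩ := lift 0 x₀ (fun i => by simpa using hx₀ i)
      refine ⟨⟨x, sub_eq_zero.1 hx⟩, Subtype.ext (funext fun i => ?_)⟩
      show algebraMap k K (IsLocalRing.residue R (x i)) = _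
      rw [hxr, hx₀z]

end Groth.Agent.CAlg24
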