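import Mathlib.LinearAlgebra.Matrix.SchurComplement
import Mathlib.LinearAlgebra.Matrix.NonsingularInverse
import Mathlib.LinearAlgebra.Matrix.ToLinearEquiv
import Mathlib.RingTheory.IntegralClosure.IntegrallyClosed
import Mathlib.RingTheory.Localization.FractionRing

/-!
The determinant of a skew-symmetric matrix is a square.
-/

set_option autoImplicit false

namespace Groth.Agent.CAlg24

universe u v

open Matrix

theorem isSquare_det_of_skew_field {K : Type u} [Field K] (h2 : (2 : K) ≠ 0) :
    ∀ (n : ℕ) (ι : Type) [Fintype ι] [DecidableEq ι], Fintype.card ι = n →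
      ∀ M : Matrix ι ι K, Mᵀ = -M → IsSquare M.det := by
  intro n
  induction n using Nat.strong_induction_on with
  | _ n ih =>
    intro ι _ _ hn M hM
    have hdiag : ∀ i, M i i = 0 := fun i => by
      have h := congrFun (congrFun hM i) i
      simp only [transpose_apply, Matrix.neg_apply] at h
      have h' : (2 : K) * M i i = 0 := by linear_combination h
      exact (mul_eq_zero.1 h').resolve_left h2
    rcases isEmpty_or_nonempty ι with hι | ⟨⟨i⟩⟩
    · rw [det_isEmpty]; exact IsSquare.one
    by_cases hrow : ∀ j, M i j = 0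
    · rw [det_eq_zero_of_row_eq_zero i hrow]; exact IsSquare.zero
    push Not at hrow
    obtain ⟨j, hj⟩ := hrow
    have hij : i ≠ j := fun h => hj (by rw [← h, hdiag])
    let p : ι → Prop := fun x => x = i ∨ x = j
    let f : Fin 2 ≃ {x // p x} := Equiv.ofBijective ![⟨i, Or.inl rfl⟩, ⟨j, Or.inr rfl⟩] ⟨by
      intro a b h
      fin_cases a <;> fin_cases b <;> simp_all [Subtype.ext_iff, eq_comm], by
      rintro ⟨x, rfl | rfl⟩
      · exact ⟨0, rfl⟩
      · exact ⟨1, rfl⟩⟩
    let e : Fin 2 ⊕ {x // ¬ p x} ≃ ι := (Equiv.sumCongr f (Equiv.refl _)).trans (Equiv.sumCompl p)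
    set N := M.submatrix e e
    have hN : Nᵀ = -N := by
      rw [transpose_submatrix, hM, Matrix.submatrix_neg]; rfl
    have hdet : N.det = M.det := det_submatrix_equiv_self e M
    rw [← hdet, ← fromBlocks_toBlocks N]
    have hblk : N.toBlocks₁₁ = !![0, M i j; -(M i j), 0] := by
      have hji : M j i = -(M i j) := by
        have h := congrFun (congrFun hM i) j
        simpa using h
      ext a b
      fin_cases a <;> fin_cases b <;> simp [N, toBlocks₁₁, e, f, hdiag, hji]
    have hdetA : N.toBlocks₁₁.det = M i j * M i j := by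
      rw [hblk, det_fin_two_of]; ring
    haveI : Invertible N.toBlocks₁₁.det := invertibleOfNonzero (by rw [hdetA]; exact mul_ne_zero hj hj)
    haveI := invertibleOfDetInvertible N.toBlocks₁₁
    rw [det_fromBlocks₁₁]
    refine IsSquare.mul ⟨M i j, hdetA⟩ (ih _ ?_ _ rfl _ ?_)
    · rw [← hn, ← Fintype.card_congr e, Fintype.card_sum, Fintype.card_fin]
      omega
    · have h12 : N.toBlocks₁₂ᵀ = -N.toBlocks₂₁ := by
        ext a b; exact congrFun (congrFun hN (Sum.inr a)) (Sum.inl b)
      have h21 : N.toBlocks₂₁ᵀ = -N.toBlocks₁₂ := by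
        ext a b; exact congrFun (congrFun hN (Sum.inl a)) (Sum.inr b)
      have h22 : N.toBlocks₂₂ᵀ = -N.toBlocks₂₂ := by
        ext a b; exact congrFun (congrFun hN (Sum.inr a)) (Sum.inr b)
      have h11 : N.toBlocks₁₁ᵀ = -N.toBlocks₁₁ := by
        ext a b; exact congrFun (congrFun hN (Sum.inl a)) (Sum.inl b)
      have hinv : (⅟(N.toBlocks₁₁))ᵀ = -⅟(N.toBlocks₁₁) := by
        rw [invOf_eq_nonsing_inv, transpose_nonsing_inv, h11]
        refine Matrix.inv_eq_right_inv ?_
        rw [neg_mul_neg, ← invOf_eq_nonsing_inv, mul_invOf_self]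
      rw [transpose_sub, transpose_mul, transpose_mul, h12, h21, h22, hinv]
      simp only [Matrix.neg_mul, Matrix.mul_neg, Matrix.mul_assoc, neg_neg, neg_sub, sub_neg_eq_add]
      abel

theorem isSquare_det_of_skew {R : Type u} [CommRing R] [IsDomain R] [IsIntegrallyClosed R] (h2 : (2 : R) ≠ 0)
    {ι : Type} [Fintype ι] [DecidableEq ι] (M : Matrix ι ι R) (hM : Mᵀ = -M) : IsSquare M.det := by
  let K := FractionRing R
  have hinj : Function.Injective (algebraMap R K) := IsFractionRing.injective R K
  obtain ⟨q, hq⟩ := isSquare_det_of_skew_field (K := K) (by simpa [map_ofNat] using (map_ne_zero_iff _ hinj).2 h2) _ ι rfl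
    (M.map (algebraMap R K)) (by rw [← Matrix.transpose_map, hM, Matrix.map_neg _ (map_neg _)])
  rw [← RingHom.mapMatrix_apply, ← RingHom.map_det, ← pow_two] at hq
  have hint : IsIntegral R q := by
    refine IsIntegral.of_pow (two_pos) ?_
    rw [← hq]; exact isIntegral_algebraMap
  obtain ⟨r, rfl⟩ := IsIntegrallyClosed.algebraMap_eq_of_integral hint
  rw [← map_pow] at hq
  exact ⟨r, by rw [hinj hq, pow_two]⟩

end Groth.Agent.CAlg24
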